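import Cfsg.Agent.Fusion.Basic
import Cfsg.Agent.BlockBasic.PPart
import Cfsg.Agent.CharInduce.Ops
import Cfsg.Agent.H43.Virtual
import Cfsg.Agent.CharBasic.Virtual
import Cfsg.Agent.CharBasic.Integral

/-!
# Abelian Sylow subgroups inverted by their normalizer: fusion and `p`-sections

`P` is an abelian Sylow `p`-subgroup, `p` odd, every element of `N(P)` fixes `P` pointwise or
inverts it, and some element inverts it.
-/

set_option autoImplicit false

namespace Cfsg.Agent.H2.SmithTyrer

open Cfsg.Agent Cfsg.Agent.BlockBasic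
open Finset
open scoped ComplexConjugate

universe u

variable {G : Type u} [Group G] {p : ℕ}

/-- The hypothesis on the Sylow subgroup. -/
structure Hyp (P : Sylow p G) : Prop where
  odd : p ≠ 2
  comm : ∀ a ∈ (P : Subgroup G), ∀ b ∈ (P : Subgroup G), a * b = b * a
  noncyclic : ¬ IsCyclic (P : Subgroup G)
  exists_inverter : ∃ τ : G, ∀ x ∈ (P : Subgroup G), τ * x * τ⁻¹ = x⁻¹
  norm_cases : ∀ g ∈ Subgroup.normalizer ((P : Subgroup G) : Set G),
    (∀ x ∈ (P : Subgroup G), g * x * g⁻¹ = x) ∨ (∀ x ∈ (P : Subgroup G), g * x * g⁻¹ = x⁻¹)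

variable [Finite G] [hp : Fact p.Prime] {P : Sylow p G}

theorem exists_orderOf_of_mem {x : G} (hx : x ∈ (P : Subgroup G)) : ∃ k, orderOf x = p ^ k := by
  obtain ⟨k, hk⟩ := P.isPGroup' ⟨x, hx⟩
  have h : orderOf x ∣ p ^ k := orderOf_dvd_of_pow_eq_one (congrArg Subtype.val hk)
  obtain ⟨j, -, hj⟩ := (Nat.dvd_prime_pow hp.out).1 h
  exact ⟨j, hj⟩

theorem pPart_of_mem {x : G} (hx : x ∈ (P : Subgroup G)) : pPart (p := p) x = x :=
  (pPart_eq_self_iff x).2 (exists_orderOf_of_mem hx)

/-- A `p`-element is conjugate into `P`. -/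
theorem exists_conj_mem (P : Sylow p G) {u : G} (hu : ∃ k, orderOf u = p ^ k) :
    ∃ c : G, c * u * c⁻¹ ∈ (P : Subgroup G) := by
  obtain ⟨k, hk⟩ := hu
  obtain ⟨Q, hQ⟩ := (IsPGroup.of_card (by rw [Nat.card_zpowers, hk] :
    Nat.card (Subgroup.zpowers u) = p ^ k)).exists_le_sylow
  obtain ⟨c, hc⟩ := MulAction.exists_smul_eq G Q P
  refine ⟨c, ?_⟩
  rw [← hc]
  exact ⟨u, hQ (Subgroup.mem_zpowers u), rfl⟩

theorem eq_one_of_eq_inv (hp2 : p ≠ 2) {x : G} (hx : x ∈ (P : Subgroup G)) (h : x = x⁻¹) :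
    x = 1 := by
  obtain ⟨k, hk⟩ := exists_orderOf_of_mem hx
  have h2 : orderOf x ∣ 2 := by
    apply orderOf_dvd_of_pow_eq_one
    rw [sq]
    nth_rewrite 1 [h]
    exact inv_mul_cancel x
  rw [hk] at h2
  rcases Nat.eq_zero_or_pos k with rfl | hk0
  · exact orderOf_eq_one_iff.1 (by simpa using hk)
  · exact absurd ((Nat.prime_dvd_prime_iff_eq hp.out Nat.prime_two).1
      ((dvd_pow_self p hk0.ne').trans h2)) hp2

/-- Conjugate elements of `P` are equal or inverse. -/
theorem Hyp.fus (H : Hyp P) {x : G} (hx : x ∈ (P : Subgroup G)) {c : G}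
    (hc : c * x * c⁻¹ ∈ (P : Subgroup G)) : c * x * c⁻¹ = x ∨ c * x * c⁻¹ = x⁻¹ := by
  have hle : ∀ a ∈ (P : Subgroup G), a ∈ Subgroup.centralizer ((P : Subgroup G) : Set G) :=
    fun a ha b hb => H.comm b hb a ha
  obtain ⟨n, hn, he⟩ := Fusion.burnside_fusion_centralizer P (hle x hx) (hle _ hc)
  rw [← he]
  exact (H.norm_cases n hn).imp (fun h => h x hx) (fun h => h x hx)

theorem Hyp.isConj_inv (H : Hyp P) {x : G} (hx : x ∈ (P : Subgroup G)) : IsConj x x⁻¹ := by
  obtain ⟨τ, hτ⟩ := H.exists_inverter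
  exact isConj_iff.2 ⟨τ, hτ x hx⟩

/-- The `p`-elements of the centraliser of a non-trivial element of `P` form a complement. -/
theorem Hyp.hasNormalPComplement_centralizer (H : Hyp P) {x : G} (hx : x ∈ (P : Subgroup G))
    (hx1 : x ≠ 1) : Cfsg.HasNormalPComplement p (Subgroup.centralizer ({x} : Set G)) := by
  have hle : (P : Subgroup G) ≤ Subgroup.centralizer ({x} : Set G) := fun a ha =>
    Subgroup.mem_centralizer_singleton_iff.2 (H.comm a ha x hx)
  refine Fusion.hasNormalPComplement_of_normalizer_le_centralizer (P.subtype hle) fun n hn => ?_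
  have hN : (n : G) ∈ Subgroup.normalizer ((P : Subgroup G) : Set G) := by
    rw [Subgroup.mem_normalizer_iff]
    intro a
    constructor
    · intro ha
      exact (Subgroup.mem_normalizer_iff.1 hn ⟨a, hle ha⟩).1 ha
    · intro ha
      have h := Subgroup.mem_centralizer_singleton_iff.1 n.2
      have ha' := hle ha
      have hac : a ∈ Subgroup.centralizer ({x} : Set G) := by
        have h2 := Subgroup.mul_mem _ (Subgroup.mul_mem _ (Subgroup.inv_mem _ n.2) ha') n.2
        simpa [mul_assoc] using h2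
      exact (Subgroup.mem_normalizer_iff.1 hn ⟨a, hac⟩).2 ha
  rcases H.norm_cases _ hN with h | h
  · intro a ha
    exact Subtype.ext (eq_mul_inv_iff_mul_eq.1 (h _ ha).symm)
  · exfalso
    apply hx1
    apply eq_one_of_eq_inv H.odd hx
    rw [← h x hx, Subgroup.mem_centralizer_singleton_iff.1 n.2, mul_inv_cancel_right]

/-! ### Sections -/

open scoped Classical in
/-- The elements with `p`-part `x`. -/
noncomputable def fibre [Fintype G] (p : ℕ) [Fact p.Prime] (x : G) : Finset G :=
  Finset.univ.filter fun g => pPart (p := p) g = x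

theorem mem_fibre [Fintype G] {x g : G} : g ∈ fibre p x ↔ pPart (p := p) g = x := by
  simp [fibre]

open scoped Classical in
/-- The `p`-singular elements. -/
noncomputable def singular [Fintype G] (p : ℕ) [Fact p.Prime] : Finset G :=
  Finset.univ.filter fun g => pPart (p := p) g ≠ 1

theorem mem_singular [Fintype G] {g : G} : g ∈ singular p ↔ pPart (p := p) g ≠ 1 := by
  simp [singular]

/-- The average of a function over a `p`-section at `x`. -/
noncomputable def avg [Fintype G] (P : Sylow p G) (h : G → ℂ) (x : G) : ℂ :=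
  (Nat.card (P : Subgroup G) : ℂ) / Nat.card (Subgroup.centralizer ({x} : Set G)) *
    ∑ g ∈ fibre p x, h g

theorem avg_add [Fintype G] (h h' : G → ℂ) (x : G) : avg P (h + h') x = avg P h x + avg P h' x := by
  simp only [avg, Pi.add_apply, Finset.sum_add_distrib, mul_add]

theorem avg_const_mul [Fintype G] (c : ℂ) (h : G → ℂ) (x : G) :
    avg P (fun g => c * h g) x = c * avg P h x := by
  simp only [avg, ← Finset.mul_sum]
  ring

theorem avg_congr [Fintype G] {h h' : G → ℂ} {x : G}
    (e : ∀ g, pPart (p := p) g = x → h g = h' g) : avg P h x = avg P h' x := by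
  simp only [avg, Finset.sum_congr rfl fun g hg => e g (mem_fibre.1 hg)]

theorem avg_inv [Fintype G] (h : G → ℂ) (hinv : ∀ g, h g⁻¹ = h g) (x : G) :
    avg P h x⁻¹ = avg P h x := by
  have hC : Subgroup.centralizer ({x⁻¹} : Set G) = Subgroup.centralizer ({x} : Set G) := by
    ext g
    simp only [Subgroup.mem_centralizer_singleton_iff]
    constructor
    · intro hg
      simpa using (Commute.inv_right (show Commute g x⁻¹ from hg)).eq
    · exact fun hg => (Commute.inv_right (show Commute g x from hg)).eq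
  unfold avg
  rw [hC]
  congr 1
  refine Finset.sum_nbij' (·⁻¹) (·⁻¹) ?_ ?_ ?_ ?_ ?_
  · intro g hg
    rw [mem_fibre] at hg ⊢
    rw [pPart_inv, hg, inv_inv]
  · intro g hg
    rw [mem_fibre] at hg ⊢
    rw [pPart_inv, hg]
  · intro g _; exact inv_inv g
  · intro g _; exact inv_inv g
  · intro g _; exact (hinv g).symm

open scoped Classical in
/-- The structure of a section: `|fibre x| = |L|` and `|C(x)| = |P| |L|`. -/
theorem Hyp.exists_fibre_eq [Fintype G] (H : Hyp P) {x : G} (hx : x ∈ (P : Subgroup G))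
    (hx1 : x ≠ 1) :
    ∃ L : Subgroup (Subgroup.centralizer ({x} : Set G)),
      Nat.card (Subgroup.centralizer ({x} : Set G)) = Nat.card (P : Subgroup G) * Nat.card L ∧
      ∀ h : G → ℂ, ∑ g ∈ fibre p x, h g =
        ∑ y : L, h (x * ((y : Subgroup.centralizer ({x} : Set G)) : G)) := by
  have hc := H.hasNormalPComplement_centralizer hx hx1
  obtain ⟨S, L, hLn, hL⟩ := hc
  have hle : (P : Subgroup G) ≤ Subgroup.centralizer ({x} : Set G) := fun a ha =>
    Subgroup.mem_centralizer_singleton_iff.2 (H.comm a ha x hx)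
  have hS : Nat.card (S : Subgroup (Subgroup.centralizer ({x} : Set G))) =
      Nat.card (P : Subgroup G) := by
    rw [Sylow.card_eq_multiplicity, ← Sylow.card_eq_multiplicity (P.subtype hle), Sylow.coe_subtype]
    exact Nat.card_congr (Subgroup.subgroupOfEquivOfLe hle).toEquiv
  have hLp : ∀ c, c ∈ L ↔ Nat.Coprime (orderOf c) p :=
    fun c => Fusion.mem_iff_coprime_orderOf (Fusion.not_dvd_card_of_isComplement' S hL)
      (Fusion.isPGroup_quotient_of_isComplement' S hL)
  refine ⟨L, by rw [← hS, mul_comm]; exact hL.card_mul_card.symm, fun h => ?_⟩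
  refine (Finset.sum_bij (fun (y : L) _ => x * ((y : Subgroup.centralizer ({x} : Set G)) : G))
    ?_ ?_ ?_ ?_).symm
  · intro y _
    rw [mem_fibre]
    refine pPart_mul_of ?_ (exists_orderOf_of_mem hx) ?_
    · exact (Subgroup.mem_centralizer_singleton_iff.1 (y : Subgroup.centralizer ({x} : Set G)).2).symm
    · rw [← hp.out.coprime_iff_not_dvd, Subgroup.orderOf_coe]
      exact ((hLp _).1 y.2).symm
  · intro a _ b _ e
    exact Subtype.ext (Subtype.ext (mul_left_cancel e))
  · intro g hg
    rw [mem_fibre] at hg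
    have hcm := commute_pPart_pReg (p := p) g
    rw [hg] at hcm
    have hmem : pReg (p := p) g ∈ Subgroup.centralizer ({x} : Set G) :=
      Subgroup.mem_centralizer_singleton_iff.2 hcm.eq.symm
    have hmL : (⟨_, hmem⟩ : Subgroup.centralizer ({x} : Set G)) ∈ L := by
      rw [hLp, Nat.coprime_comm, hp.out.coprime_iff_not_dvd, ← Subgroup.orderOf_coe]
      exact not_dvd_orderOf_pReg g
    refine ⟨⟨_, hmL⟩, Finset.mem_univ _, ?_⟩
    show x * pReg (p := p) g = g
    conv_lhs => rw [← hg]
    exact pPart_mul_pReg g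
  · intro y _; rfl

/-- A section average of a constant. -/
theorem Hyp.avg_one [Fintype G] (H : Hyp P) {x : G} (hx : x ∈ (P : Subgroup G)) (hx1 : x ≠ 1) :
    avg P (fun _ => (1 : ℂ)) x = 1 := by
  classical
  obtain ⟨L, hcard, hsum⟩ := H.exists_fibre_eq hx hx1
  have hP : (Nat.card (P : Subgroup G) : ℂ) ≠ 0 := Nat.cast_ne_zero.2 Nat.card_pos.ne'
  have hL : (Nat.card L : ℂ) ≠ 0 := Nat.cast_ne_zero.2 Nat.card_pos.ne'
  rw [avg, hsum fun _ => 1, hcard]
  simp only [Finset.sum_const, Finset.card_univ, nsmul_one, ← Nat.card_eq_fintype_card]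
  push_cast
  field_simp

/-- Section averages of generalised characters are algebraic integers. -/
theorem Hyp.avg_isIntegral [Fintype G] (H : Hyp P) {x : G} (hx : x ∈ (P : Subgroup G))
    (hx1 : x ≠ 1) {θ : G → ℂ} (hθ : Cfsg.IsGeneralizedCharacter G θ) :
    IsIntegral ℤ (avg P θ x) := by
  classical
  obtain ⟨L, hcard, hsum⟩ := H.exists_fibre_eq hx hx1
  have hP : (Nat.card (P : Subgroup G) : ℂ) ≠ 0 := Nat.cast_ne_zero.2 Nat.card_pos.ne'
  have hL : (Nat.card L : ℂ) ≠ 0 := Nat.cast_ne_zero.2 Nat.card_pos.ne'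
  have key : ∀ χ : G → ℂ, Cfsg.IsCharacter G χ → IsIntegral ℤ (avg P χ x) := by
    intro χ hχ
    obtain ⟨m, -, hm⟩ := CharBasic.IsChar.exists_nat_mult
      (CharInduce.IsChar.res hχ (Subgroup.centralizer ({x} : Set G)))
    have hz : (⟨x, Subgroup.mem_centralizer_singleton_iff.2 rfl⟩ :
        Subgroup.centralizer ({x} : Set G)) ∈
        Subgroup.center (Subgroup.centralizer ({x} : Set G)) := by
      rw [Subgroup.mem_center_iff]
      exact fun g => Subtype.ext (Subgroup.mem_centralizer_singleton_iff.1 g.2)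
    set z : Subgroup.centralizer ({x} : Set G) := ⟨x, Subgroup.mem_centralizer_singleton_iff.2 rfl⟩
      with hzdef
    have hψ : ∀ ψ : Cfsg.IrrCharacter (Subgroup.centralizer ({x} : Set G)),
        IsIntegral ℤ ((Nat.card L : ℂ)⁻¹ * ∑ y : L,
          (ψ : Subgroup.centralizer ({x} : Set G) → ℂ) (z * y)) := by
      rintro ⟨ψ, n, ρ, hρ, rfl⟩
      haveI := hρ
      obtain ⟨ω, -, -, hω⟩ := CharBasic.exists_central_scalar ρ hz
      have hωint : IsIntegral ℤ ω := by
        have hpow : ∀ k : ℕ, ρ.character (z ^ k) = ω ^ k * ρ.character 1 := by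
          intro k
          induction k with
          | zero => simp
          | succ k ih => rw [pow_succ, hω, ih]; ring
        have h1 : ρ.character 1 ≠ 0 :=
          CharBasic.IsIrr.one_ne_zero (CharBasic.isIrrCharacter_character ρ)
        have h2 := hpow (orderOf z)
        rw [pow_orderOf_eq_one] at h2
        exact IsIntegral.of_pow (orderOf_pos z)
          (by rw [(mul_eq_right₀ h1).1 h2.symm]; exact isIntegral_one)
      obtain ⟨k, hk⟩ := CharBasic.classInner_isChar_nat
        (CharInduce.IsChar.res (CharBasic.isCharacter_character ρ) L)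
        (CharInduce.IsChar.one (G := L))
      have he : (Nat.card L : ℂ)⁻¹ * ∑ y : L, ρ.character (z * y) = ω * k := by
        rw [← hk, CharBasic.classInner_def, Finset.sum_congr rfl (g := fun y : L =>
            ω * ρ.character (y : Subgroup.centralizer ({x} : Set G)))
            fun y _ => by rw [← Subgroup.mem_center_iff.1 hz, hω],
          ← Finset.mul_sum]
        simp only [map_one, mul_one]
        ring
      show IsIntegral ℤ ((Nat.card L : ℂ)⁻¹ * ∑ y : L, ρ.character (z * y))
      rw [he]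
      exact hωint.mul (isIntegral_algebraMap (x := (k : ℤ)))
    have hval : avg P χ x = ∑ ψ : Cfsg.IrrCharacter (Subgroup.centralizer ({x} : Set G)),
        (m ψ : ℂ) * ((Nat.card L : ℂ)⁻¹ * ∑ y : L,
          (ψ : Subgroup.centralizer ({x} : Set G) → ℂ) (z * y)) := by
      rw [avg, hsum, hcard]
      simp only [Finset.mul_sum]
      rw [Finset.sum_comm]
      refine Finset.sum_congr rfl fun y _ => ?_
      have e := congrFun hm (z * y)
      simp only [Finset.sum_apply, Pi.smul_apply, smul_eq_mul] at e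
      rw [show χ (x * ((y : Subgroup.centralizer ({x} : Set G)) : G)) = _ from e, Finset.mul_sum]
      refine Finset.sum_congr rfl fun ψ _ => ?_
      push_cast
      field_simp
    rw [hval]
    exact IsIntegral.sum _ fun ψ _ => (isIntegral_algebraMap (x := (m ψ : ℤ))).mul (hψ ψ)
  obtain ⟨χ, ψ, hχ, hψ, rfl⟩ := hθ
  have : avg P (χ - ψ) x = avg P χ x - avg P ψ x := by
    simp only [avg, Pi.sub_apply, Finset.sum_sub_distrib, mul_sub]
  rw [this]
  exact (key χ hχ).sub (key ψ hψ)

open scoped Classical in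
/-- The sum over the `p`-singular elements through the section averages. -/
theorem Hyp.sum_singular [Fintype G] (H : Hyp P) {h : G → ℂ} (hh : Cfsg.IsClassFunction G h) :
    (Nat.card G : ℂ) * ∑ x ∈ Finset.univ.filter (fun x => x ∈ (P : Subgroup G) ∧ x ≠ 1),
        avg P h x =
      2 * Nat.card (P : Subgroup G) * ∑ g ∈ singular p, h g := by
  set X := Finset.univ.filter (fun x : G => x ∈ (P : Subgroup G) ∧ x ≠ 1) with hXdef
  have hX : ∀ x, x ∈ X ↔ x ∈ (P : Subgroup G) ∧ x ≠ 1 := fun x => by simp [hXdef]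
  set S : G → ℂ := fun u => ∑ g ∈ fibre p u, h g with hSdef
  have hSconj : ∀ c x : G, S (c * x * c⁻¹) = S x := by
    intro c x
    refine Finset.sum_nbij' (fun g => c⁻¹ * g * c) (fun g => c * g * c⁻¹) ?_ ?_ ?_ ?_ ?_
    · intro g hg
      rw [mem_fibre] at hg ⊢
      have := pPart_conj (p := p) g c⁻¹
      rw [inv_inv] at this
      rw [this, hg]
      group
    · intro g hg
      rw [mem_fibre] at hg ⊢
      rw [pPart_conj, hg]
    · intro g _; group
    · intro g _; group
    · intro g _
      have := hh g c⁻¹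
      rw [inv_inv] at this
      exact this.symm
  have hCpos : ∀ x : G, (Nat.card (Subgroup.centralizer ({x} : Set G)) : ℂ) ≠ 0 :=
    fun x => Nat.cast_ne_zero.2 Nat.card_pos.ne'
  set n : ℂ := (Nat.card (P : Subgroup G) : ℂ)
  have hLHS : (Nat.card G : ℂ) * ∑ x ∈ X, avg P h x =
      ∑ x ∈ X, ∑ c : G, n / Nat.card (Subgroup.centralizer ({x} : Set G)) * S (c * x * c⁻¹) := by
    rw [Finset.mul_sum]
    refine Finset.sum_congr rfl fun x _ => ?_
    simp only [hSconj, Finset.sum_const, Finset.card_univ, nsmul_eq_mul, ← Nat.card_eq_fintype_card]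
    rfl
  set U := Finset.univ.filter (fun u : G => (∃ k, orderOf u = p ^ k) ∧ u ≠ 1) with hUdef
  have hU : ∀ u, u ∈ U ↔ (∃ k, orderOf u = p ^ k) ∧ u ≠ 1 := fun u => by simp [hUdef]
  have hmaps : ∀ a ∈ X ×ˢ (Finset.univ : Finset G), a.2 * a.1 * a.2⁻¹ ∈ U := by
    rintro ⟨x, c⟩ ha
    rw [Finset.mem_product, hX] at ha
    rw [hU]
    refine ⟨?_, fun e => ha.1.2 (conj_eq_one_iff.1 e)⟩
    rw [← MulAut.conj_apply, MulEquiv.orderOf_eq]
    exact exists_orderOf_of_mem ha.1.1
  have hcardfix : ∀ x u : G, IsConj x u →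
      ((Finset.univ : Finset G).filter fun c => c * x * c⁻¹ = u).card =
        Nat.card (Subgroup.centralizer ({x} : Set G)) := by
    intro x u hxu
    obtain ⟨d, rfl⟩ := isConj_iff.1 hxu
    rw [Nat.card_eq_fintype_card, ← Finset.card_univ]
    refine Finset.card_bij' (fun c _ => (⟨d⁻¹ * c, ?_⟩ : Subgroup.centralizer ({x} : Set G)))
      (fun z _ => d * (z : G)) ?_ ?_ ?_ ?_
    · have hc := (Finset.mem_filter.1 ‹c ∈ _›).2
      rw [Subgroup.mem_centralizer_singleton_iff]
      calc d⁻¹ * c * x = d⁻¹ * (c * x * c⁻¹) * c := by group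
        _ = x * (d⁻¹ * c) := by rw [hc]; group
    · intro c _; exact Finset.mem_univ _
    · intro z _
      rw [Finset.mem_filter]
      refine ⟨Finset.mem_univ _, ?_⟩
      have hz := Subgroup.mem_centralizer_singleton_iff.1 z.2
      calc d * (z : G) * x * (d * (z : G))⁻¹ = d * ((z : G) * x) * (z : G)⁻¹ * d⁻¹ := by group
        _ = d * x * d⁻¹ := by rw [hz]; group
    · intro c _; simp
    · intro z _; ext; simp
  have hcount : ∀ u ∈ U, ∑ a ∈ (X ×ˢ (Finset.univ : Finset G)).filter
      (fun a => a.2 * a.1 * a.2⁻¹ = u),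
      n / Nat.card (Subgroup.centralizer ({a.1} : Set G)) * S (a.2 * a.1 * a.2⁻¹) =
      2 * n * S u := by
    intro u hu
    rw [hU] at hu
    obtain ⟨c₀, hc₀⟩ := exists_conj_mem P hu.1
    set x₀ := c₀ * u * c₀⁻¹ with hx₀
    have hx₀1 : x₀ ≠ 1 := fun e => hu.2 (conj_eq_one_iff.1 e)
    rw [Finset.sum_congr rfl (g := fun a =>
      n / Nat.card (Subgroup.centralizer ({a.1} : Set G)) * S u) fun a ha => by
      rw [(Finset.mem_filter.1 ha).2]]
    rw [Finset.sum_filter, Finset.sum_product]
    have hinner : ∀ x ∈ X, (∑ c : G, if c * x * c⁻¹ = u then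
        n / Nat.card (Subgroup.centralizer ({x} : Set G)) * S u else 0) =
        if IsConj x u then n * S u else 0 := by
      intro x _
      rw [← Finset.sum_filter, Finset.sum_const, nsmul_eq_mul]
      split_ifs with hc
      · rw [hcardfix x u hc]
        field_simp [hCpos x]
      · rw [Finset.filter_eq_empty_iff.2 fun c _ e => hc (isConj_iff.2 ⟨c, e⟩)]
        simp
    rw [Finset.sum_congr rfl hinner, ← Finset.sum_filter, Finset.sum_const, nsmul_eq_mul]
    have hset : X.filter (fun x => IsConj x u) = {x₀, x₀⁻¹} := by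
      ext x
      rw [Finset.mem_filter, hX, Finset.mem_insert, Finset.mem_singleton]
      constructor
      · rintro ⟨⟨hxP, -⟩, hxu⟩
        obtain ⟨c, hc⟩ := isConj_iff.1 hxu
        have he : (c₀ * c) * x * (c₀ * c)⁻¹ = x₀ := by
          rw [hx₀, ← hc]; group
        rcases H.fus hxP (c := c₀ * c) (by rw [he]; exact hc₀) with h1 | h1
        · left; rw [← he, h1]
        · right; rw [← he, h1, inv_inv]
      · intro hxx
        have hconj : IsConj x₀ u := isConj_iff.2 ⟨c₀⁻¹, by rw [hx₀]; group⟩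
        rcases hxx with rfl | rfl
        · exact ⟨⟨hc₀, hx₀1⟩, hconj⟩
        · exact ⟨⟨inv_mem hc₀, fun e => hx₀1 (inv_eq_one.1 e)⟩,
            (H.isConj_inv hc₀).symm.trans hconj⟩
    rw [hset, Finset.card_pair fun e => hx₀1 (eq_one_of_eq_inv H.odd hc₀ e)]
    push_cast
    ring
  rw [hLHS, ← Finset.sum_product', ← Finset.sum_fiberwise_of_maps_to hmaps,
    Finset.sum_congr rfl hcount, ← Finset.mul_sum]
  congr 1
  have hmaps' : ∀ g ∈ singular p (G := G), pPart (p := p) g ∈ U := fun g hg => by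
    rw [hU]; exact ⟨exists_orderOf_pPart g, mem_singular.1 hg⟩
  rw [← Finset.sum_fiberwise_of_maps_to hmaps' h]
  refine Finset.sum_congr rfl fun u hu => ?_
  refine Finset.sum_congr ?_ fun _ _ => rfl
  ext g
  rw [Finset.mem_filter, mem_fibre, mem_singular]
  exact ⟨fun e => ⟨e ▸ ((hU u).1 hu).2, e⟩, fun e => e.2⟩

end Cfsg.Agent.H2.SmithTyrer
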