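import Cfsg.Agent.H2.SmithTyrer.Exceptional
import Cfsg.Agent.H24.FPF
import Cfsg.Agent.H81.AlgInt
import Cfsg.Agent.CharBasic.Rep
import Mathlib.FieldTheory.Finite.Basic

/-!
# The exceptional constituent is constant on the `p`-singular elements
-/

set_option autoImplicit false

namespace Cfsg.Agent.H2.SmithTyrer

open Cfsg.Agent Cfsg.Agent.BlockBasic Finset
open scoped ComplexConjugate IsMulCommutative

universe u

section values

variable {G : Type u} [Group G] [Finite G]

/-- The values of a character at the powers of an element. -/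
theorem char_values_pow {χ : G → ℂ} (hχ : Cfsg.IsCharacter G χ) (g : G) :
    ∃ (d : ℕ) (μ : Fin d → ℂ), (∀ i, μ i ^ orderOf g = 1) ∧ ∀ j : ℕ, χ (g ^ j) = ∑ i, μ i ^ j := by
  obtain ⟨n, ρ, rfl⟩ := hχ
  obtain ⟨b, μ, hb, hμ, -⟩ := CharBasic.exists_eigenbasis_rep ρ g
  refine ⟨_, μ, hμ, fun j => ?_⟩
  rw [Representation.character, LinearMap.trace_eq_matrix_trace ℂ b]
  refine Finset.sum_congr rfl fun i _ => ?_
  have he : ∀ j : ℕ, ρ (g ^ j) (b i) = μ i ^ j • b i := by
    intro j
    induction j with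
    | zero => simp
    | succ j ih => rw [pow_succ, map_mul, Module.End.mul_apply, hb, map_smul, ih, smul_smul,
        pow_succ, mul_comm]
  rw [Matrix.diag_apply, LinearMap.toMatrix_apply, he]
  simp

/-- An integer valued generalised character is constant on the generators of a cyclic group. -/
theorem gen_apply_pow_coprime {θ : G → ℂ} (hθ : Cfsg.IsGeneralizedCharacter G θ) {g : G}
    {z : ℤ} (hz : θ g = z) {k : ℕ} (hk : k.Coprime (orderOf g)) : θ (g ^ k) = θ g := by
  obtain ⟨σ, hσ⟩ := H43.exists_aut_pow (orderOf_pos g).ne' hk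
  have key : ∀ χ : G → ℂ, Cfsg.IsCharacter G χ → χ (g ^ k) = σ (χ g) := by
    intro χ hχ
    obtain ⟨d, μ, hμ, hv⟩ := char_values_pow hχ g
    rw [hv, show χ g = χ (g ^ 1) by rw [pow_one], hv, map_sum]
    exact Finset.sum_congr rfl fun i _ => by rw [pow_one, hσ _ (hμ i)]
  obtain ⟨χ, ψ, hχ, hψ, rfl⟩ := hθ
  rw [Pi.sub_apply, key χ hχ, key ψ hψ, ← map_sub, ← Pi.sub_apply, hz, map_intCast]

theorem add_pow_prime {p : ℕ} (hp : p.Prime) {ι : Type*} (s : Finset ι) (f : ι → Cfsg.AlgInt) :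
    ∃ r : Cfsg.AlgInt, (∑ i ∈ s, f i) ^ p = ∑ i ∈ s, f i ^ p + p * r := by
  classical
  induction s using Finset.induction_on with
  | empty => exact ⟨0, by simp [zero_pow hp.ne_zero]⟩
  | insert a s has ih =>
    obtain ⟨r, hr⟩ := ih
    obtain ⟨t, ht⟩ := exists_add_pow_prime_eq hp (f a) (∑ i ∈ s, f i)
    refine ⟨r + f a * (∑ i ∈ s, f i) * t, ?_⟩
    rw [Finset.sum_insert has, Finset.sum_insert has, ht, hr]
    ring

/-- Values of an integer valued generalised character at `g` and `g ^ p` are congruent mod `p`. -/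
theorem gen_apply_pow_prime_modEq {θ : G → ℂ} (hθ : Cfsg.IsGeneralizedCharacter G θ) {p : ℕ}
    [hp : Fact p.Prime] {g : G} {a b : ℤ} (ha : θ g = a) (hb : θ (g ^ p) = b) :
    (a : ZMod p) = b := by
  have key : ∀ χ : G → ℂ, Cfsg.IsCharacter G χ → ∃ A B R : Cfsg.AlgInt,
      (A : ℂ) = χ g ∧ (B : ℂ) = χ (g ^ p) ∧ A ^ p = B + p * R := by
    intro χ hχ
    obtain ⟨d, μ, hμ, hv⟩ := char_values_pow hχ g
    let m : Fin d → Cfsg.AlgInt := fun i =>
      ⟨μ i, IsIntegral.of_pow (orderOf_pos g) (by rw [hμ i]; exact isIntegral_one)⟩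
    obtain ⟨R, hR⟩ := add_pow_prime hp.out Finset.univ m
    refine ⟨∑ i, m i, ∑ i, m i ^ p, R, ?_, ?_, hR⟩
    · conv_rhs => rw [← pow_one g, hv]
      simp [m]
    · rw [hv]
      simp [m]
  obtain ⟨χ, ψ, hχ, hψ, rfl⟩ := hθ
  obtain ⟨A, B, R, hA, hB, hAB⟩ := key χ hχ
  obtain ⟨A', B', R', hA', hB', hAB'⟩ := key ψ hψ
  rw [Pi.sub_apply] at ha hb
  have e1 : A - A' = (a : Cfsg.AlgInt) := Subtype.ext (by push_cast; rw [hA, hA', ha])
  have e2 : B - B' = (b : Cfsg.AlgInt) := Subtype.ext (by push_cast; rw [hB, hB', hb])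
  obtain ⟨t, ht⟩ := exists_add_pow_prime_eq hp.out (A - A') A'
  rw [sub_add_cancel] at ht
  have e3 : ((b - a ^ p : ℤ) : Cfsg.AlgInt) =
      (p : Cfsg.AlgInt) * (R' - R + (A - A') * A' * t) := by
    push_cast
    rw [← e1, ← e2]
    linear_combination -hAB + hAB' + ht
  have hd : (p : ℤ) ∣ b - a ^ p := by
    rw [Int.natCast_dvd]
    refine H81.natCast_dvd_natCast hp.out.ne_zero ?_
    rcases Int.natAbs_eq (b - a ^ p) with h | h
    · refine ⟨_, Eq.trans ?_ e3⟩
      rw [← Int.cast_natCast, ← h]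
    · refine ⟨-(R' - R + (A - A') * A' * t), ?_⟩
      rw [mul_neg, ← e3, ← Int.cast_natCast, ← Int.cast_neg]
      congr 1
      omega
  have h0 := (ZMod.intCast_zmod_eq_zero_iff_dvd (b - a ^ p) p).2 hd
  push_cast [ZMod.pow_card] at h0
  exact (sub_eq_zero.1 h0).symm

end values

/-- A sum over orbits of length three. -/
theorem three_dvd_sum {α : Type*} [DecidableEq α] (σ : α → α) (h3 : ∀ x, σ (σ (σ x)) = x)
    (f : α → ℤ) (hf : ∀ x, f (σ x) = f x) (s : Finset α) (hs : ∀ x ∈ s, σ x ∈ s)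
    (hne : ∀ x ∈ s, σ x ≠ x) : (3 : ℤ) ∣ ∑ x ∈ s, f x := by
  induction s using Finset.strongInductionOn with
  | _ s ih =>
    rcases s.eq_empty_or_nonempty with rfl | ⟨x, hx⟩
    · simp
    set T : Finset α := {x, σ x, σ (σ x)}
    have hTs : T ⊆ s := by
      intro y hy
      simp only [T, Finset.mem_insert, Finset.mem_singleton] at hy
      rcases hy with rfl | rfl | rfl
      exacts [hx, hs _ hx, hs _ (hs _ hx)]
    have n1 : x ≠ σ x := (hne x hx).symm
    have n2 : σ x ≠ σ (σ x) := (hne _ (hs _ hx)).symm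
    have n3 : x ≠ σ (σ x) := fun e => hne _ (hs _ (hs _ hx)) (by rw [h3]; exact e)
    rw [← Finset.sum_sdiff hTs]
    refine dvd_add (ih _ (Finset.sdiff_ssubset hTs ⟨x, by simp [T]⟩) ?_
      fun y hy => hne y (Finset.mem_sdiff.1 hy).1) ⟨f x, ?_⟩
    · intro y hy
      rw [Finset.mem_sdiff] at hy ⊢
      refine ⟨hs y hy.1, fun hT => hy.2 ?_⟩
      simp only [T, Finset.mem_insert, Finset.mem_singleton] at hT ⊢
      rw [← h3 y]
      rcases hT with e | e | e <;> rw [e] <;> simp [h3]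
    · rw [Finset.sum_insert (by simp [n1, n3]), Finset.sum_pair n2, hf, hf, hf]
      ring

variable {G : Type u} [Group G] [Fintype G] {p : ℕ} [hp : Fact p.Prime] {P : Sylow p G}

theorem card_centralizer_eq (H : Hyp P) {x : G} (hx : x ∈ (P : Subgroup G)) :
    ∃ L : ℕ, 0 < L ∧ ¬ p ∣ L ∧
      Nat.card (Subgroup.centralizer ({x} : Set G)) = Nat.card (P : Subgroup G) * L := by
  have hle : (P : Subgroup G) ≤ Subgroup.centralizer ({x} : Set G) := fun a ha =>
    Subgroup.mem_centralizer_singleton_iff.2 (H.comm a ha x hx)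
  obtain ⟨L, hL⟩ := Subgroup.card_dvd_of_le hle
  refine ⟨L, ?_, fun h => P.not_dvd_index (h.trans ?_), hL⟩
  · rcases Nat.eq_zero_or_pos L with rfl | h
    · rw [mul_zero] at hL; exact absurd hL Nat.card_pos.ne'
    · exact h
  · refine (Nat.mul_dvd_mul_iff_left (Nat.card_pos (α := (P : Subgroup G)))).1 ?_
    rw [← hL, Subgroup.card_mul_index]
    exact Subgroup.card_subgroup_dvd_card _

open scoped Classical in
theorem Hyp.eq_one_of_singular (H : Hyp P) {F : G → ℂ} (hF : Cfsg.IsGeneralizedCharacter G F)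
    (hnorm : Cfsg.classInner F F = 1) (h10 : Cfsg.classInner F (fun _ : G => (1 : ℂ)) = 0)
    (hint : ∀ g, ∃ z : ℤ, F g = z)
    (havg : ∀ x ∈ (P : Subgroup G), x ≠ 1 → avg P F x = 1) :
    ∀ g : G, pPart (p := p) g ≠ 1 → F g = 1 := by
  choose k hk using hint
  have hcl : Cfsg.IsClassFunction G F := H43.gen_isClassFunction hF
  have hreal : ∀ g, k g⁻¹ = k g := fun g => by
    have := H43.gen_inv_apply hF g
    rw [hk, hk, map_intCast] at this
    exact_mod_cast this
  set n : ℕ := Nat.card (P : Subgroup G) with hndef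
  have hn9 : 9 ≤ n := H.card_ge
  set X := Finset.univ.filter (fun x : G => x ∈ (P : Subgroup G) ∧ x ≠ 1) with hXdef
  have hX : ∀ x, x ∈ X ↔ x ∈ (P : Subgroup G) ∧ x ≠ 1 := fun x => by simp [hXdef]
  have hXcard : X.card = n - 1 := by
    have hs : X = (Finset.univ.filter fun x : G => x ∈ (P : Subgroup G)).erase 1 := by
      ext x
      simp [hX, and_comm]
    rw [hs, Finset.card_erase_of_mem (by simp), ← Fintype.card_subtype, ← Nat.card_eq_fintype_card]
  set w : G → ℂ := F - fun _ => 1 with hwdef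
  have hw : Cfsg.IsGeneralizedCharacter G w := H43.gen_sub hF (H43.gen_of_char CharInduce.IsChar.one)
  -- the deviation on a section
  set D : G → ℤ := fun x => ∑ g ∈ fibre p x, (k g - 1) ^ 2 with hDdef
  have hV : ∀ x ∈ X, ∃ (V : ℤ) (L : ℕ), 0 ≤ V ∧ ¬ p ∣ L ∧ 0 < L ∧ D x = V * L ∧
      avg P (fun g => w g * w g) x = V := by
    intro x hx
    rw [hX] at hx
    obtain ⟨L, hL0, hLp, hL⟩ := card_centralizer_eq H hx.1
    have hLc : (L : ℂ) ≠ 0 := Nat.cast_ne_zero.2 hL0.ne'
    have hnc : (n : ℂ) ≠ 0 := Nat.cast_ne_zero.2 (by omega)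
    have e : avg P (fun g => w g * w g) x = (((D x : ℚ) / L : ℚ) : ℂ) := by
      rw [avg, hL, ← hndef, hDdef]
      push_cast
      rw [Finset.sum_congr rfl (g := fun g => ((k g : ℂ) - 1) ^ 2) fun g _ => by
        simp only [hwdef, Pi.sub_apply, hk]; ring]
      field_simp
    have hi : IsIntegral ℤ (avg P (fun g => w g * w g) x) :=
      H.avg_isIntegral hx.1 hx.2 (CharInduce.IsGen.mul hw hw)
    obtain ⟨V, hVe⟩ := H43.int_of_rat_integral hi e
    rw [hVe] at e
    have e' : (V : ℚ) = (D x : ℚ) / L := by exact_mod_cast e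
    have hD : D x = V * L := by
      rw [eq_div_iff (by exact_mod_cast hL0.ne')] at e'
      exact_mod_cast e'.symm
    refine ⟨V, L, ?_, hLp, hL0, hD, hVe⟩
    have h0 : 0 ≤ D x := Finset.sum_nonneg fun g _ => sq_nonneg _
    rw [hD] at h0
    exact nonneg_of_mul_nonneg_left h0 (by exact_mod_cast hL0)
  choose! V L hV0 hLp hL0 hDV hVavg using hV
  -- the sums over the singular elements
  set S : Finset G := singular p with hS
  have hGc : (0 : ℤ) < Nat.card G := by exact_mod_cast Nat.card_pos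
  have hsum1 : (Nat.card G : ℤ) * ((n : ℤ) - 1) = 2 * n * (S.card : ℤ) := by
    have h := H.sum_singular (h := fun _ => (1 : ℂ)) (fun _ _ => rfl)
    rw [Finset.sum_congr rfl fun x hx => H.avg_one ((hX x).1 hx).1 ((hX x).1 hx).2,
      Finset.sum_const, Finset.sum_const, nsmul_one, nsmul_one, hXcard,
      Nat.cast_sub (by omega), Nat.cast_one, ← hndef] at h
    exact_mod_cast h
  have hsum2 : (Nat.card G : ℤ) * ((n : ℤ) - 1) = 2 * n * ∑ g ∈ S, k g := by
    have h := H.sum_singular hcl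
    rw [Finset.sum_congr rfl fun x hx => havg x ((hX x).1 hx).1 ((hX x).1 hx).2,
      Finset.sum_const, nsmul_one, hXcard, Nat.cast_sub (by omega), Nat.cast_one,
      Finset.sum_congr rfl fun g _ => hk g, ← hndef] at h
    exact_mod_cast h
  have hsum3 : (Nat.card G : ℤ) * ∑ x ∈ X, V x = 2 * n * ∑ g ∈ S, (k g - 1) ^ 2 := by
    have h := H.sum_singular (h := fun g => w g * w g) (fun g c => by
      simp only [hwdef, Pi.sub_apply, hcl g c])
    have e : ∑ g ∈ S, w g * w g = ∑ g ∈ S, ((k g : ℂ) - 1) ^ 2 :=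
      Finset.sum_congr rfl fun g _ => by simp only [hwdef, Pi.sub_apply, hk]; ring
    rw [Finset.sum_congr rfl hVavg, ← hS, e, ← hndef] at h
    exact_mod_cast h
  have htot1 : ∑ g : G, k g = 0 := by
    rw [CharBasic.classInner_def] at h10
    simp only [map_one, mul_one, mul_eq_zero, inv_eq_zero, Nat.cast_eq_zero, Nat.card_pos.ne',
      false_or, hk] at h10
    exact_mod_cast h10
  have htot2 : ∑ g : G, k g ^ 2 = Nat.card G := by
    rw [CharBasic.classInner_def, inv_mul_eq_iff_eq_mul₀ (Nat.cast_ne_zero.2 Nat.card_pos.ne'),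
      mul_one] at hnorm
    simp only [hk, map_intCast, ← sq] at hnorm
    exact_mod_cast hnorm
  have hsplit : ∀ f : G → ℤ, ∑ g : G, f g = ∑ g ∈ S, f g + ∑ g ∈ Sᶜ, f g :=
    fun f => (Finset.sum_add_sum_compl S f).symm
  have hbound : ∑ x ∈ X, V x ≤ 3 := by
    have hcs := sq_sum_le_card_mul_sum_sq (s := Sᶜ) (f := k)
    rw [hsplit] at htot1 htot2
    have hA : ∑ g ∈ S, (k g - 1) ^ 2 = ∑ g ∈ S, k g ^ 2 - 2 * ∑ g ∈ S, k g + (S.card : ℤ) := by
      rw [Finset.card_eq_sum_ones, Finset.mul_sum, Nat.cast_sum, ← Finset.sum_sub_distrib,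
        ← Finset.sum_add_distrib]
      exact Finset.sum_congr rfl fun g _ => by push_cast; ring
    have hR : ((Sᶜ.card : ℕ) : ℤ) = (Nat.card G : ℤ) - S.card := by
      rw [Finset.card_compl, Nat.cast_sub (Finset.card_le_univ S), Nat.card_eq_fintype_card]
    rw [hR] at hcs
    generalize (∑ x ∈ X, V x) = v at *
    generalize (Nat.card G : ℤ) = N at *
    generalize (S.card : ℤ) = s at *
    generalize (∑ g ∈ S, (k g - 1) ^ 2) = a at *
    generalize (∑ g ∈ S, k g ^ 2) = b at *
    generalize (∑ g ∈ S, k g) = c at *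
    generalize (∑ g ∈ Sᶜ, k g ^ 2) = d at *
    generalize (∑ g ∈ Sᶜ, k g) = e at *
    have hn' : (9 : ℤ) ≤ n := by exact_mod_cast hn9
    generalize (n : ℤ) = m at *
    -- multiply Cauchy's inequality by `4 m ^ 2`
    have he : 2 * m * e = -(N * (m - 1)) := by linear_combination 2 * m * htot1 + hsum2
    have hd : 2 * m * d = N * (m + 1 - v) := by
      linear_combination 2 * m * htot2 + 2 * m * hA + hsum3 + 2 * hsum2 - hsum1
    have hs : 2 * m * (N - s) = N * (m + 1) := by linear_combination hsum1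
    have h4 := mul_le_mul_of_nonneg_left hcs (sq_nonneg (2 * m))
    rw [show (2 * m) ^ 2 * e ^ 2 = (2 * m * e) ^ 2 by ring, he,
      show (2 * m) ^ 2 * ((N - s) * d) = (2 * m * (N - s)) * (2 * m * d) by ring, hs, hd] at h4
    have h5 : N ^ 2 * (m - 1) ^ 2 ≤ N ^ 2 * ((m + 1) * (m + 1 - v)) := by linarith
    have h6 := le_of_mul_le_mul_left h5 (by positivity)
    by_contra hv
    have : 4 * (m + 1) ≤ v * (m + 1) := mul_le_mul_of_nonneg_right (by omega) (by linarith)
    nlinarith
  -- symmetry of the deviations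
  have hVinv : ∀ x ∈ X, V x⁻¹ = V x := by
    intro x hx
    have hx' : x⁻¹ ∈ X := by
      rw [hX] at hx ⊢
      exact ⟨inv_mem hx.1, fun e => hx.2 (inv_eq_one.1 e)⟩
    have h := hVavg x⁻¹ hx'
    rw [avg_inv _ (fun g => by simp only [hwdef, Pi.sub_apply, hk, hreal]) x, hVavg x hx] at h
    exact_mod_cast h.symm
  have hpair : ∀ x ∈ X, ∀ y ∈ X, V x ≠ 0 → V y ≠ 0 → y = x ∨ y = x⁻¹ := by
    intro x hx y hy hvx hvy
    by_contra hne
    push Not at hne
    have hx2 := (hX x).1 hx
    have hy2 := (hX y).1 hy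
    have hxi : x⁻¹ ∈ X := (hX _).2 ⟨inv_mem hx2.1, fun e => hx2.2 (inv_eq_one.1 e)⟩
    have hyi : y⁻¹ ∈ X := (hX _).2 ⟨inv_mem hy2.1, fun e => hy2.2 (inv_eq_one.1 e)⟩
    have hxx : x ≠ x⁻¹ := fun e => hx2.2 (eq_one_of_eq_inv H.odd hx2.1 e)
    have hyy : y ≠ y⁻¹ := fun e => hy2.2 (eq_one_of_eq_inv H.odd hy2.1 e)
    have hsub : ({x, x⁻¹, y, y⁻¹} : Finset G) ⊆ X := by
      intro z hz
      simp only [Finset.mem_insert, Finset.mem_singleton] at hz
      rcases hz with rfl | rfl | rfl | rfl <;> assumption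
    have h1 := (Finset.sum_le_sum_of_subset_of_nonneg hsub fun z hz _ => hV0 z hz).trans hbound
    have d1 : x ∉ ({x⁻¹, y, y⁻¹} : Finset G) := by
      simp only [Finset.mem_insert, Finset.mem_singleton, not_or]
      exact ⟨hxx, hne.1.symm, fun e => hne.2 (by rw [e, inv_inv])⟩
    have d2 : x⁻¹ ∉ ({y, y⁻¹} : Finset G) := by
      simp only [Finset.mem_insert, Finset.mem_singleton, not_or]
      exact ⟨hne.2.symm, fun e => hne.1 (inv_injective e).symm⟩
    rw [Finset.sum_insert d1, Finset.sum_insert d2, Finset.sum_pair hyy, hVinv x hx,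
      hVinv y hy] at h1
    have := hV0 x hx
    have := hV0 y hy
    omega
  suffices hall : ∀ x ∈ X, V x = 0 by
    intro g hg
    obtain ⟨c, hc⟩ := exists_conj_mem P (exists_orderOf_pPart (p := p) g)
    set x := c * pPart (p := p) g * c⁻¹ with hxdef
    have hxX : x ∈ X := (hX x).2 ⟨hc, fun e => hg (conj_eq_one_iff.1 e)⟩
    have h0 := hDV x hxX
    rw [hall x hxX, zero_mul, hDdef] at h0
    have hgf : c * g * c⁻¹ ∈ fibre p x := by rw [mem_fibre, pPart_conj]
    have h1 := (Finset.sum_eq_zero_iff_of_nonneg fun g _ => sq_nonneg _).1 h0 _ hgf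
    have h2 : k (c * g * c⁻¹) = 1 := sub_eq_zero.1 (pow_eq_zero_iff two_ne_zero |>.1 h1)
    rw [← hcl g c, hk, h2, Int.cast_one]
  intro x hxX
  by_contra hvx
  have hx := (hX x).1 hxX
  -- the deviation at `x ^ 2` equals the deviation at `x`
  obtain ⟨q, hq⟩ := exists_orderOf_of_mem hx.1
  have hodd : Odd (orderOf x) := by rw [hq]; exact (hp.out.odd_of_ne_two H.odd).pow
  obtain ⟨j, hj⟩ := hodd
  have hroot : (x ^ 2) ^ (j + 1) = x := by
    rw [← pow_mul, show 2 * (j + 1) = orderOf x + 1 by omega, pow_succ, pow_orderOf_eq_one, one_mul]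
  have hx2X : x ^ 2 ∈ X := by
    refine (hX _).2 ⟨pow_mem hx.1 2, fun e => hx.2 ?_⟩
    rw [← hroot, e, one_pow]
  set m : ℕ := (P : Subgroup G).index with hmdef
  have hco : Nat.Coprime n m := P.card_coprime_index
  obtain ⟨e, he1, he2⟩ := Nat.chineseRemainder hco 2 1
  have hnG : n * m = Nat.card G := Subgroup.card_mul_index _
  obtain ⟨a₀, ha₀⟩ := IsPGroup.iff_card.1 P.isPGroup'
  have hen : e.Coprime n := by
    rw [Nat.Coprime, he1.gcd_eq]
    exact ((Nat.coprime_primes Nat.prime_two hp.out).2 (Ne.symm H.odd)).pow_right a₀ ▸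
      (show n = p ^ a₀ from ha₀) ▸ rfl
  have hem : e.Coprime m := by
    rw [Nat.Coprime, he2.gcd_eq]
    exact Nat.gcd_one_left m
  have hshift : ∀ g ∈ fibre p x, x * g = g ^ e := by
    intro g hg
    rw [mem_fibre] at hg
    have hc := commute_pPart_pReg (p := p) g
    have hy := not_dvd_orderOf_pReg (p := p) g
    rw [hg] at hc
    conv_rhs => rw [← pPart_mul_pReg (p := p) g, hg]
    conv_lhs => rw [← pPart_mul_pReg (p := p) g, hg]
    rw [hc.mul_pow]
    have h1 : x ^ e = x ^ 2 := pow_eq_pow_iff_modEq.2 (he1.of_dvd (by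
      rw [← Subgroup.orderOf_mk x hx.1]; exact orderOf_dvd_natCard _))
    have h2 : pReg (p := p) g ^ e = pReg (p := p) g := by
      conv_rhs => rw [← pow_one (pReg (p := p) g)]
      refine pow_eq_pow_iff_modEq.2 (he2.of_dvd ?_)
      refine Nat.Coprime.dvd_of_dvd_mul_left ?_ (hnG ▸ orderOf_dvd_natCard _)
      rw [show n = p ^ a₀ from ha₀]
      exact (((hp.out.coprime_iff_not_dvd).2 hy).pow_left a₀).symm
    rw [h1, h2, sq, mul_assoc]
  have hD2 : D (x ^ 2) = D x := by
    rw [hDdef]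
    refine (Finset.sum_nbij' (fun g => x * g) (fun g => x⁻¹ * g) ?_ ?_ ?_ ?_ ?_).symm
    · intro g hg
      simp only [Finset.mem_coe, mem_fibre] at hg
      simp only [Finset.mem_coe, mem_fibre]
      have hc := commute_pPart_pReg (p := p) g
      rw [hg] at hc
      conv_lhs => rw [← pPart_mul_pReg (p := p) g, hg, ← mul_assoc, ← sq]
      exact pPart_mul_of (hc.pow_left 2) (exists_orderOf_of_mem (pow_mem hx.1 2))
        (not_dvd_orderOf_pReg g)
    · intro g hg
      simp only [Finset.mem_coe, mem_fibre] at hg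
      simp only [Finset.mem_coe, mem_fibre]
      have hc := commute_pPart_pReg (p := p) g
      rw [hg] at hc
      have hc' : Commute x (pReg (p := p) g) := by
        have := hc.pow_left (j + 1)
        rwa [hroot] at this
      conv_lhs => rw [← pPart_mul_pReg (p := p) g, hg, sq, ← mul_assoc, inv_mul_cancel_left]
      exact pPart_mul_of hc' (exists_orderOf_of_mem hx.1) (not_dvd_orderOf_pReg g)
    · intro g _; exact inv_mul_cancel_left x g
    · intro g _; exact mul_inv_cancel_left x g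
    · intro g hg
      rw [hshift g hg]
      have hcop : e.Coprime (orderOf g) :=
        Nat.Coprime.coprime_dvd_right (hnG ▸ orderOf_dvd_natCard g) (hen.mul_right hem)
      have := gen_apply_pow_coprime hF (hk g) hcop
      rw [hk, hk] at this
      rw [show k (g ^ e) = k g by exact_mod_cast this]
  have hv2 : V (x ^ 2) ≠ 0 := by
    intro h0
    have h := hDV _ hx2X
    rw [h0, zero_mul, hD2, hDV x hxX] at h
    exact (mul_ne_zero hvx (by exact_mod_cast (hL0 x hxX).ne')) h
  have hx3 : x ^ 3 = 1 := by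
    rcases hpair x hxX (x ^ 2) hx2X hvx hv2 with h | h
    · rw [sq, mul_eq_left] at h
      exact absurd h hx.2
    · rw [pow_succ, h, inv_mul_cancel]
  have hord : orderOf x = 3 := orderOf_eq_prime hx3 hx.2
  have hp3 : p = 3 := by
    have h3 : p ∣ orderOf x := by
      rcases Nat.eq_zero_or_pos q with rfl | hq0
      · rw [pow_zero, hord] at hq; omega
      · exact hq ▸ dvd_pow_self p hq0.ne'
    rw [hord] at h3
    exact (Nat.prime_dvd_prime_iff_eq hp.out Nat.prime_three).1 h3
  -- a second direction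
  haveI := H.isMulCommutative
  obtain ⟨B, hB, hBp⟩ := H24.exists_elementary_sq hp.out P.isPGroup' H.noncyclic
  obtain ⟨a, haB, hax⟩ : ∃ a ∈ B, (a : G) ∉ Subgroup.zpowers x := by
    by_contra hall
    push Not at hall
    have h1 : Nat.card B ≤ Nat.card (Subgroup.zpowers x) :=
      Nat.card_le_card_of_injective (fun b : B => (⟨_, hall b b.2⟩ : Subgroup.zpowers x))
        fun b c e => Subtype.ext (Subtype.ext (congrArg Subtype.val e :))
    rw [hB, Nat.card_zpowers, hord, hp3] at h1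
    omega
  have ha3 : (a : G) ^ 3 = 1 := by
    have h : (a : G) ^ p = 1 := by simpa using congrArg Subtype.val (hBp a haB)
    exact (congrArg (fun t : ℕ => (a : G) ^ t) hp3).symm.trans h
  have haX : (a : G) ∈ X := (hX _).2 ⟨a.2, fun e => hax (e ▸ one_mem _)⟩
  have hva : V (a : G) = 0 := by
    by_contra hva
    rcases hpair x hxX a haX hvx hva with h | h <;> apply hax <;> rw [h]
    · exact Subgroup.mem_zpowers x
    · exact inv_mem (Subgroup.mem_zpowers x)
  have hone : ∀ y ∈ fibre p (a : G), k y = 1 := by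
    intro y hy
    have h0 := hDV _ haX
    rw [hva, zero_mul, hDdef] at h0
    have h1 := (Finset.sum_eq_zero_iff_of_nonneg fun g _ => sq_nonneg _).1 h0 _ hy
    exact sub_eq_zero.1 (pow_eq_zero_iff two_ne_zero |>.1 h1)
  have hV1 : V x = 1 := by
    have hxi : x⁻¹ ∈ X := (hX _).2 ⟨inv_mem hx.1, fun e => hx.2 (inv_eq_one.1 e)⟩
    have h1 := (Finset.sum_le_sum_of_subset_of_nonneg
      (show ({x, x⁻¹} : Finset G) ⊆ X by
        intro z hz
        simp only [Finset.mem_insert, Finset.mem_singleton] at hz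
        rcases hz with rfl | rfl <;> assumption) fun z hz _ => hV0 z hz).trans hbound
    rw [Finset.sum_pair fun e => hx.2 (eq_one_of_eq_inv H.odd hx.1 e), hVinv x hxX] at h1
    have := hV0 x hxX
    omega
  set σ : G → G := fun g => (a : G) * g * (a : G)⁻¹ with hσ
  have hax' : (a : G) * x = x * (a : G) := H.comm _ a.2 _ hx.1
  have hσ3 : ∀ g, σ (σ (σ g)) = g := fun g => by
    simp only [hσ]
    have e : (a : G) * a * a = 1 := by rw [← ha3]; simp [pow_succ]
    calc _ = (a : G) * a * a * g * ((a : G) * a * a)⁻¹ := by group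
      _ = g := by rw [e]; group
  have hmaps : ∀ g ∈ fibre p x, σ g ∈ fibre p x := by
    intro g hg
    rw [mem_fibre] at hg ⊢
    simp only [hσ]
    rw [pPart_conj, hg, hax', mul_inv_cancel_right]
  have hkσ : ∀ g, k (σ g) = k g := fun g => by
    have := hcl g (a : G)
    rw [hk, hk] at this
    exact_mod_cast this
  set f : G → ℤ := fun g => (k g - 1) ^ 2 with hfdef
  have hdvd : (3 : ℤ) ∣ D x := by
    simp only [hDdef]
    rw [show (∑ g ∈ fibre p x, (k g - 1) ^ 2) = ∑ g ∈ fibre p x, f g from rfl,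
      ← Finset.sum_filter_add_sum_filter_not (fibre p x) (fun g => σ g = g)]
    refine dvd_add (Finset.dvd_sum fun g hg => ?_) (three_dvd_sum σ hσ3 f
      (fun g => by simp only [hfdef, hkσ]) _ (fun g hg => ?_) fun g hg => (Finset.mem_filter.1 hg).2)
    · rw [Finset.mem_filter, mem_fibre] at hg
      have hag : Commute (a : G) g := mul_inv_eq_iff_eq_mul.1 hg.2
      set y := pReg (p := p) g with hy
      have hgy : x * y = g := by rw [← hg.1]; exact pPart_mul_pReg g
      have hcxy : Commute x y := by rw [← hg.1]; exact commute_pPart_pReg g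
      have hay : Commute (a : G) y := by
        rw [show y = x⁻¹ * g by rw [← hgy, inv_mul_cancel_left]]
        exact (Commute.inv_right hax').mul_right hag
      have hga : (a : G) * y ∈ fibre p (a : G) := mem_fibre.2
        (pPart_mul_of hay (exists_orderOf_of_mem a.2) (not_dvd_orderOf_pReg g))
      have e1 := gen_apply_pow_prime_modEq hF (hk g) (hk (g ^ p))
      have e2 := gen_apply_pow_prime_modEq hF (hk ((a : G) * y)) (hk (((a : G) * y) ^ p))
      have hz : ∀ z : G, z ^ p = z ^ 3 := fun z => by rw [hp3]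
      have e3 : g ^ p = ((a : G) * y) ^ p := by
        rw [← hgy, hcxy.mul_pow, hay.mul_pow, hz x, hz (a : G), hx3, ha3]
      rw [e3, ← e2, hone _ hga, Int.cast_one] at e1
      have h3 : (p : ℤ) ∣ k g - 1 := (ZMod.intCast_zmod_eq_zero_iff_dvd _ p).1 (by
        push_cast; rw [e1, sub_self])
      rw [hp3] at h3
      exact dvd_pow h3 two_ne_zero
    · rw [Finset.mem_filter] at hg ⊢
      refine ⟨hmaps g hg.1, fun e => hg.2 ?_⟩
      calc σ g = σ (σ (σ (σ g))) := (hσ3 (σ g)).symm
        _ = σ (σ (σ g)) := congrArg (fun z => σ (σ z)) e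
        _ = g := hσ3 g
  rw [hDV x hxX, hV1, one_mul] at hdvd
  refine hLp x hxX ?_
  rw [hp3]
  exact_mod_cast hdvd

end Cfsg.Agent.H2.SmithTyrer
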