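import Cfsg.Agent.H2.SmithTyrer.Basic
import Cfsg.Agent.H50.CocycleExt
import Mathlib.GroupTheory.FiniteAbelian.Basic

/-!
# A central extension in which the Sylow subgroup is non-abelian
-/

set_option autoImplicit false

namespace Cfsg.Agent.H2.SmithTyrer

open Cfsg.Agent Finset
open scoped IsMulCommutative

universe u

variable {G : Type u} [Group G] [Finite G] {p : ℕ} [hp : Fact p.Prime] {P : Sylow p G}

/-- A central extension by a group of order `p` in which `P` lifts to a non-abelian group. -/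
structure Cover (P : Sylow p G) {E : Type u} [Group E] (π : E →* G) : Prop where
  surj : Function.Surjective π
  central : π.ker ≤ Subgroup.center E
  card_ker : Nat.card π.ker = p
  nonabelian : ∃ x y : E, π x ∈ (P : Subgroup G) ∧ π y ∈ (P : Subgroup G) ∧ x * y ≠ y * x

/-- Additive on `P`. -/
def AddOn (P : Sylow p G) (φ : G → ZMod p) : Prop :=
  ∀ a ∈ (P : Subgroup G), ∀ b ∈ (P : Subgroup G), φ (a * b) = φ a + φ b

omit [Finite G] in
theorem AddOn.map_one {φ : G → ZMod p} (h : AddOn P φ) : φ 1 = 0 := by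
  have := h 1 (one_mem _) 1 (one_mem _)
  simpa using this

omit [Finite G] in
theorem AddOn.map_inv {φ : G → ZMod p} (h : AddOn P φ) {a : G} (ha : a ∈ (P : Subgroup G)) :
    φ a⁻¹ = -φ a := by
  have := h a ha a⁻¹ (inv_mem ha)
  rw [mul_inv_cancel, h.map_one] at this
  exact eq_neg_of_add_eq_zero_right this.symm

open scoped Classical in
/-- Two independent additive functionals on `P`. -/
theorem Hyp.exists_functionals (H : Hyp P) :
    ∃ φ ψ : G → ZMod p, AddOn P φ ∧ AddOn P ψ ∧ ∃ u ∈ (P : Subgroup G), ∃ v ∈ (P : Subgroup G),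
      φ u * ψ v - φ v * ψ u ≠ 0 := by
  haveI : IsMulCommutative (P : Subgroup G) := ⟨⟨fun a b => Subtype.ext (H.comm a a.2 b b.2)⟩⟩
  obtain ⟨ι, hι, n, hn, ⟨e⟩⟩ :=
    CommGroup.equiv_prod_multiplicative_zmod_of_finite (P : Subgroup G)
  haveI : Nontrivial ι := by
    by_contra hne
    haveI : Subsingleton ι := not_nontrivial_iff_subsingleton.1 hne
    apply H.noncyclic
    rcases isEmpty_or_nonempty ι with hemp | ⟨⟨i⟩⟩
    · haveI : Subsingleton (P : Subgroup G) := e.toEquiv.subsingleton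
      exact isCyclic_of_subsingleton
    · haveI : Unique ι := uniqueOfSubsingleton i
      exact (MulEquiv.isCyclic (e.trans (MulEquiv.piUnique fun j => Multiplicative (ZMod (n j))))).2
        inferInstance
  obtain ⟨i, j, hij⟩ := exists_pair_ne ι
  have hdvd : ∀ k, p ∣ n k := by
    intro k
    haveI : NeZero (n k) := ⟨(hn k).ne_bot⟩
    set z : (P : Subgroup G) := e.symm (Pi.mulSingle k (Multiplicative.ofAdd 1))
    have hord : orderOf z = n k := by
      rw [MulEquiv.orderOf_eq, ← MonoidHom.mulSingle_apply, orderOf_injective (MonoidHom.mulSingle (fun l => Multiplicative (ZMod (n l))) k)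
          (fun a b h => Pi.mulSingle_injective (M := fun l => Multiplicative (ZMod (n l))) k h),
        orderOf_ofAdd_eq_addOrderOf, ZMod.addOrderOf_one]
    obtain ⟨a, ha⟩ := P.isPGroup' z
    obtain ⟨b, -, hb⟩ := (Nat.dvd_prime_pow hp.out).1 (orderOf_dvd_of_pow_eq_one ha)
    rw [hord] at hb
    rcases Nat.eq_zero_or_pos b with rfl | hb0
    · rw [pow_zero] at hb; exact absurd hb (hn k).ne'
    · exact hb ▸ dvd_pow_self p hb0.ne'
  let fn : ι → G → ZMod p := fun k g => if h : g ∈ (P : Subgroup G) then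
    ZMod.castHom (hdvd k) (ZMod p) (Multiplicative.toAdd (e ⟨g, h⟩ k)) else 0
  have hadd : ∀ k, AddOn P (fn k) := by
    intro k a ha b hb
    have hab : (⟨a * b, mul_mem ha hb⟩ : (P : Subgroup G)) = ⟨a, ha⟩ * ⟨b, hb⟩ := rfl
    simp only [fn, dif_pos ha, dif_pos hb, dif_pos (mul_mem ha hb), hab, map_mul, Pi.mul_apply,
      toAdd_mul, map_add]
  have hval : ∀ k l, fn k ((e.symm (Pi.mulSingle l (Multiplicative.ofAdd 1)) : (P : Subgroup G)) : G)
      = if l = k then 1 else 0 := by
    intro k l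
    simp only [fn, dif_pos (SetLike.coe_mem _), Subtype.coe_eta, MulEquiv.apply_symm_apply]
    by_cases h : l = k
    · subst h
      rw [Pi.mulSingle_eq_same, toAdd_ofAdd, map_one, if_pos rfl]
    · rw [Pi.mulSingle_eq_of_ne (Ne.symm h), toAdd_one, map_zero, if_neg h]
  refine ⟨fn i, fn j, hadd i, hadd j, _, SetLike.coe_mem (e.symm (Pi.mulSingle i (Multiplicative.ofAdd 1))),
    _, SetLike.coe_mem (e.symm (Pi.mulSingle j (Multiplicative.ofAdd 1))), ?_⟩
  rw [hval, hval, hval, hval, if_pos rfl, if_pos rfl, if_neg hij.symm]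
  simp

/-- Conjugation between elements of `P` is uniformly trivial or uniformly inversion. -/
theorem Hyp.conj_uniform (H : Hyp P) (r : G) :
    (∀ x ∈ (P : Subgroup G), r * x * r⁻¹ ∈ (P : Subgroup G) → r * x * r⁻¹ = x) ∨
    (∀ x ∈ (P : Subgroup G), r * x * r⁻¹ ∈ (P : Subgroup G) → r * x * r⁻¹ = x⁻¹) := by
  by_contra hne
  push Not at hne
  obtain ⟨⟨x, hx, hxr, hx'⟩, ⟨y, hy, hyr, hy'⟩⟩ := hne
  have ex := (H.fus hx hxr).resolve_left hx'
  have ey := (H.fus hy hyr).resolve_right hy'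
  have exy : r * (x * y) * r⁻¹ = x⁻¹ * y := by
    rw [← ex]; nth_rewrite 2 [← ey]; group
  rcases H.fus (mul_mem hx hy) (c := r) (by rw [exy]; exact mul_mem (inv_mem hx) hy) with h | h
  · rw [exy] at h
    apply hx'
    rw [ex, mul_right_cancel h]
  · rw [exy] at h
    apply hy'
    rw [ey]
    rw [mul_inv_rev, H.comm y⁻¹ (inv_mem hy) x⁻¹ (inv_mem hx)] at h
    exact mul_left_cancel h

variable [Fintype (G ⧸ (P : Subgroup G))]

local notation "Ω" => G ⧸ (P : Subgroup G)
/-- A section of the cosets. -/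
noncomputable def rep (w : Ω) : G := Quotient.out w

local notation "sch" => H50.schreier (rep (P := P))

omit [Finite G] hp [Fintype (G ⧸ (P : Subgroup G))] in
theorem out_smul (w : Ω) : rep w • ((1 : G) : Ω) = w := by
  rw [rep, MulAction.Quotient.smul_mk, smul_eq_mul, mul_one]
  exact QuotientGroup.out_eq' w

omit [Finite G] hp in
theorem sch_mem (g : G) (w : Ω) : sch g w ∈ (P : Subgroup G) := by
  have h := H50.schreier_mem (rep (P := P)) out_smul g w
  rwa [MulAction.stabilizer_quotient] at h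

/-- The restriction of the monomial representation to `P`, up to a coboundary. -/
theorem Hyp.exists_normal_form (H : Hyp P) : ∃ ε : Ω → ZMod p, (∀ w, ε w * ε w = 1) ∧
    (∀ u ∈ (P : Subgroup G), ∀ w, ε (u • w) = ε w) ∧
    ∀ φ : G → ZMod p, AddOn P φ → ∃ γ : Ω → ZMod p, ∀ u ∈ (P : Subgroup G), ∀ w,
      φ (sch u w) = ε w * φ u + γ (u • w) - γ w := by
  classical
  let s : Setoid Ω := MulAction.orbitRel (P : Subgroup G) Ω
  let b : Ω → Ω := fun w => (Quotient.mk s w).out
  have hbs : ∀ u ∈ (P : Subgroup G), ∀ w, b (u • w) = b w := by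
    intro u hu w
    show (Quotient.mk s (u • w)).out = (Quotient.mk s w).out
    exact congrArg Quotient.out (Quotient.sound (MulAction.orbitRel_apply.2 ⟨⟨u, hu⟩, rfl⟩))
  have hbw : ∀ w, ∃ a ∈ (P : Subgroup G), a • b w = w := by
    intro w
    have h : s.r (b w) w := Quotient.exact (Quotient.out_eq (Quotient.mk s w))
    obtain ⟨⟨a, ha⟩, he⟩ := MulAction.orbitRel_apply.1 (s.symm h)
    exact ⟨a, ha, he⟩
  choose a haP ha using hbw
  let e0 : Ω → ZMod p := fun w => if ∀ x ∈ (P : Subgroup G),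
    (rep w)⁻¹ * x * rep w ∈ (P : Subgroup G) →
    (rep w)⁻¹ * x * rep w = x then 1 else -1
  refine ⟨fun w => e0 (b w), fun w => ?_, fun u hu w => by simp only [hbs u hu w], fun φ hφ => ?_⟩
  · simp only [e0]
    split_ifs <;> ring
  let D : G → Ω → ZMod p := fun u w => φ (sch u w) - e0 (b w) * φ u
  have hD : ∀ u ∈ (P : Subgroup G), ∀ v ∈ (P : Subgroup G), ∀ w,
      D (u * v) w = D u (v • w) + D v w := by
    intro u hu v hv w
    simp only [D, hφ u hu v hv, hbs v hv w]
    rw [H50.schreier_mul, hφ _ (sch_mem _ _) _ (sch_mem _ _)]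
    ring
  have hfix : ∀ q ∈ (P : Subgroup G), ∀ w, q • b w = b w → D q (b w) = 0 := by
    intro q hq w hqw
    have hbb : b (b w) = b w := by
      show (Quotient.mk s (Quotient.mk s w).out).out = _
      rw [Quotient.out_eq]
    set r := rep (b w) with hr
    have hs : sch q (b w) = r⁻¹ * q * r := by
      rw [H50.schreier, hqw]
    have hmem : r⁻¹ * q * r ∈ (P : Subgroup G) := hs ▸ sch_mem q (b w)
    simp only [D, hs, hbb, e0, ← hr]
    split_ifs with hc
    · rw [hc q hq hmem, one_mul, sub_self]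
    · have h2 := (H.conj_uniform r⁻¹).resolve_left (by simpa only [inv_inv] using hc)
      have h3 := h2 q hq (by simpa only [inv_inv] using hmem)
      rw [inv_inv] at h3
      rw [h3, hφ.map_inv hq]
      ring
  refine ⟨fun w => D (a w) (b w), fun u hu w => ?_⟩
  have hq : ((a (u • w))⁻¹ * (u * a w)) • b w = b w := by
    rw [mul_smul, mul_smul, ha, inv_smul_eq_iff]
    rw [← hbs u hu w, ha]
  have hqP : (a (u • w))⁻¹ * (u * a w) ∈ (P : Subgroup G) :=
    mul_mem (inv_mem (haP _)) (mul_mem hu (haP _))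
  have h1 := hD u hu (a w) (haP w) (b w)
  have h2 := hD (a (u • w)) (haP _) _ hqP (b w)
  rw [hq, mul_inv_cancel_left, hfix _ hqP w hq, add_zero] at h2
  rw [ha] at h1
  simp only [D, hbs u hu w] at h1 h2 ⊢
  linear_combination h2 - h1

/-- The corestricted cocycle has nondegenerate alternating part. -/
theorem sum_commutator (H : Hyp P) {φ ψ : G → ZMod p} (hφ : AddOn P φ)
    (hψ : AddOn P ψ) {u v : G} (hu : u ∈ (P : Subgroup G)) (hv : v ∈ (P : Subgroup G)) :
    ∑ w : Ω, φ (sch u (v • w)) * ψ (sch v w) - ∑ w : Ω, φ (sch v (u • w)) * ψ (sch u w) =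
      (Fintype.card Ω : ZMod p) * (φ u * ψ v - φ v * ψ u) := by
  obtain ⟨ε, hε2, hεP, hnf⟩ := H.exists_normal_form
  obtain ⟨γ, hγ⟩ := hnf φ hφ
  obtain ⟨δ, hδ⟩ := hnf ψ hψ
  have shift : ∀ (g : G) (F : Ω → ZMod p), ∑ w : Ω, F (g • w) = ∑ w : Ω, F w :=
    fun g F => Equiv.sum_comp (MulAction.toPerm g) F
  have key : ∀ x ∈ (P : Subgroup G), ∀ y ∈ (P : Subgroup G),
      ∑ w : Ω, φ (sch x (y • w)) * ψ (sch y w) = (Fintype.card Ω : ZMod p) * (φ x * ψ y) +
        (∑ w : Ω, γ (x • w) * δ w - ∑ w : Ω, γ ((x * y) • w) * δ w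
          - ∑ w : Ω, γ w * δ w + ∑ w : Ω, γ (y • w) * δ w) := by
    intro x hx y hy
    have hxy : ∀ w : Ω, y • x • w = (x * y) • w := fun w => by
      rw [← mul_smul, H.comm y hy x hx]
    have hterm : ∀ w : Ω, φ (sch x (y • w)) * ψ (sch y w) = φ x * ψ y +
        φ x * (ε (y • w) * δ (y • w) - ε w * δ w) +
        ψ y * (ε (x • y • w) * γ (x • y • w) - ε (y • w) * γ (y • w)) +
        (γ (x • y • w) * δ (y • w) - γ ((x * y) • w) * δ w - γ (y • w) * δ (y • w) +
          γ (y • w) * δ w) := by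
      intro w
      rw [hγ x hx, hδ y hy, hεP y hy w, hεP x hx (y • w), hεP y hy w, ← mul_smul x y w]
      linear_combination (φ x * ψ y) * hε2 w
    simp only [hterm, Finset.sum_add_distrib, Finset.sum_sub_distrib, ← Finset.mul_sum]
    rw [shift y (fun w => ε w * δ w), shift y (fun w => ε (x • w) * γ (x • w)),
      shift x (fun w => ε w * γ w), shift y (fun w => ε w * γ w),
      shift y (fun w => γ (x • w) * δ w), shift y (fun w => γ w * δ w),
      Finset.sum_const, Finset.card_univ, nsmul_eq_mul]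
    ring
  rw [key u hu v hv, key v hv u hu, H.comm v hv u hu]
  ring

omit [Fintype (G ⧸ (P : Subgroup G))] in
theorem Hyp.exists_cover (H : Hyp P) :
    ∃ (E : Type u) (_ : Group E) (_ : Finite E) (π : E →* G), Cover P π := by
  classical
  haveI := Fintype.ofFinite (G ⧸ (P : Subgroup G))
  obtain ⟨φ, ψ, hφ, hψ, u, hu, v, hv, hdet⟩ := H.exists_functionals
  let c := H50.cores (A := ZMod p) (rep (P := P)) (o := ((1 : G) : Ω)) out_smul
    (fun x y => φ x * ψ y)
    (fun x _ => ⟨by rw [hφ.map_one, zero_mul], by rw [hψ.map_one, mul_zero]⟩)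
    (fun x hx y hy z hz => by
      rw [MulAction.stabilizer_quotient] at hx hy hz
      rw [hφ x hx y hy, hψ y hy z hz]
      ring)
  refine ⟨c.Ext, inferInstance, inferInstance, c.proj, c.proj_surjective, c.ker_le_center, ?_,
    ⟨0, u⟩, ⟨0, v⟩, hu, hv, fun hcomm => ?_⟩
  · rw [Nat.card_congr c.kerEquiv.toEquiv, Nat.card_congr (Multiplicative.toAdd : Multiplicative (ZMod p) ≃ _),
      Nat.card_zmod]
  · have h := c.commutator_lift (H.comm u hu v hv) _ rfl
    rw [commutatorElement_eq_one_iff_mul_comm.2 hcomm] at h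
    have h0 : c.f u v - c.f v u = 0 := congrArg H50.Cocycle.Ext.a h
    have h1 := sum_commutator H hφ hψ hu hv
    rw [show c.f u v - c.f v u = _ from h1] at h0
    refine (mul_ne_zero ?_ hdet) h0
    rw [Ne, ZMod.natCast_eq_zero_iff, ← Nat.card_eq_fintype_card]
    exact P.not_dvd_index

end Cfsg.Agent.H2.SmithTyrer
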