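import Cfsg.Agent.H2.SmithTyrer.Lifts
import Cfsg.Agent.H84.ClassProd

/-!
# The equation between the values at the identity and at an involution
-/

set_option autoImplicit false

namespace Cfsg.Agent.H2.SmithTyrer

open Cfsg.Agent Cfsg.Agent.BlockBasic Finset
open scoped ComplexConjugate

universe u

section linalg

variable {X : Type u} [Group X] [Fintype X]

/-- The quadratic functional at a signed irreducible character. -/
theorem sum_coeff_signed {s : X → ℂ} (hs : H43.Signed s) (L : X) :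
    ∑ χ : Cfsg.IrrCharacter X, (χ : X → ℂ) 1 *
      (Cfsg.centralChar (χ : X → ℂ) L * Cfsg.centralChar (χ : X → ℂ) L) *
        Cfsg.classInner s (χ : X → ℂ) =
      ((Subgroup.centralizer ({L} : Set X)).index : ℂ) ^ 2 * (s L ^ 2 / s 1) := by
  classical
  have key : ∀ (χ₀ : Cfsg.IrrCharacter X) (ε : ℂ), ε * ε = 1 → s = ε • (χ₀ : X → ℂ) →
      ∑ χ : Cfsg.IrrCharacter X, (χ : X → ℂ) 1 *
        (Cfsg.centralChar (χ : X → ℂ) L * Cfsg.centralChar (χ : X → ℂ) L) *
          Cfsg.classInner s (χ : X → ℂ) =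
        ((Subgroup.centralizer ({L} : Set X)).index : ℂ) ^ 2 * (s L ^ 2 / s 1) := by
    intro χ₀ ε hε he
    have h1 : (χ₀ : X → ℂ) 1 ≠ 0 := CharBasic.IsIrr.one_ne_zero χ₀.2
    have hε0 : ε ≠ 0 := fun h => by rw [h, mul_zero] at hε; exact zero_ne_one hε
    rw [Finset.sum_eq_single χ₀]
    · rw [he, CharBasic.classInner_smul_left, CharBasic.classInner_irr_self χ₀.2]
      simp only [Cfsg.centralChar, Pi.smul_apply, smul_eq_mul]
      field_simp
    · intro χ _ hne
      rw [he, CharBasic.classInner_smul_left, CharBasic.classInner_irr_of_ne χ₀.2 χ.2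
        (fun h => hne (Subtype.ext h.symm)), mul_zero, mul_zero]
    · intro h; exact absurd (Finset.mem_univ _) h
  rcases hs with h | h
  · exact key ⟨s, h⟩ 1 (one_mul 1) (by simp)
  · exact key ⟨-s, h⟩ (-1) (by norm_num) (by simp)

/-- Two norm-two characters, orthogonal and congruent up to an odd factor, share constituents. -/
theorem exists_pair_of_congr {Λ Λ' θ : X → ℂ} (hΛ : Cfsg.IsGeneralizedCharacter X Λ)
    (hΛ' : Cfsg.IsGeneralizedCharacter X Λ') (hθ : Cfsg.IsGeneralizedCharacter X θ) {q : ℕ}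
    (hq : Odd q) (h2 : Cfsg.classInner Λ Λ = 2) (h2' : Cfsg.classInner Λ' Λ' = 2)
    (hort : Cfsg.classInner Λ' Λ = 0) (hcon : ∀ g, Λ' g = q * Λ g + 2 * θ g) :
    ∃ (Y Y' : X → ℂ) (a : ℂ), H43.Signed Y ∧ H43.Signed Y' ∧ a * a = 1 ∧
      Λ = Y + Y' ∧ Λ' = a • (Y - Y') := by
  classical
  obtain ⟨Y, Y', hY, hY', hYY, hsum⟩ := H43.signed_pair_of_norm_two hΛ h2
  obtain ⟨a, ha⟩ := H43.gen_inner_int hΛ' hY.gen
  obtain ⟨b, hb⟩ := H43.gen_inner_int hΛ' hY'.gen
  have hodd : ∀ (S : X → ℂ) (k : ℤ), H43.Signed S → Cfsg.classInner Λ S = 1 →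
      Cfsg.classInner Λ' S = k → Odd k := by
    intro S k hS h1 hk
    obtain ⟨j, hj⟩ := H43.gen_inner_int hθ hS.gen
    have e : Λ' = (q : ℂ) • Λ + (2 : ℂ) • θ := by
      funext g; simp [hcon g]
    rw [e, CharBasic.classInner_add_left, CharBasic.classInner_smul_left,
      CharBasic.classInner_smul_left, h1, hj, mul_one] at hk
    have hk' : (q : ℤ) + 2 * j = k := by exact_mod_cast hk
    obtain ⟨i, hi⟩ := hq
    exact ⟨(i : ℤ) + j, by rw [← hk', hi]; push_cast; ring⟩
  have hYY' : Cfsg.classInner Y' Y = 0 := by rw [H43.gen_inner_symm hY'.gen hY.gen, hYY]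
  have hao := hodd Y a hY (by rw [hsum, CharBasic.classInner_add_left, hY.inner_self, hYY', add_zero]) ha
  have hbo := hodd Y' b hY' (by rw [hsum, CharBasic.classInner_add_left, hY'.inner_self, hYY, zero_add]) hb
  set r : X → ℂ := Λ' - (a : ℂ) • Y - (b : ℂ) • Y' with hr
  have hrg : Cfsg.IsGeneralizedCharacter X r :=
    H43.gen_sub (H43.gen_sub hΛ' (H43.gen_zsmul hY.gen a |> fun h => by
      simpa only [Int.cast_smul_eq_zsmul] using h)) (H43.gen_zsmul hY'.gen b |> fun h => by
      simpa only [Int.cast_smul_eq_zsmul] using h)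
  have ha' : Cfsg.classInner Y Λ' = a := by rw [H43.gen_inner_symm hY.gen hΛ', ha]
  have hb' : Cfsg.classInner Y' Λ' = b := by rw [H43.gen_inner_symm hY'.gen hΛ', hb]
  have hnorm : Cfsg.classInner r r = ((2 - a ^ 2 - b ^ 2 : ℤ) : ℂ) := by
    simp only [hr, CharBasic.classInner_sub_left, CharBasic.classInner_sub_right,
      CharBasic.classInner_smul_left, CharBasic.classInner_smul_right, map_intCast, h2', ha, hb,
      ha', hb', hYY, hYY', hY.inner_self, hY'.inner_self]
    push_cast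
    ring
  have hnn : 0 ≤ 2 - a ^ 2 - b ^ 2 := by
    obtain ⟨n, -, hn⟩ := H43.gen_norm_eq hrg
    rw [hnorm] at hn
    have : (2 - a ^ 2 - b ^ 2 : ℤ) = ∑ χ, n χ ^ 2 := by exact_mod_cast hn
    rw [this]
    exact Finset.sum_nonneg fun χ _ => sq_nonneg _
  have ha1 : 1 ≤ a ^ 2 := by
    have : a ≠ 0 := by rintro rfl; simp at hao
    nlinarith [mul_self_pos.2 this]
  have hb1 : 1 ≤ b ^ 2 := by
    have : b ≠ 0 := by rintro rfl; simp at hbo
    nlinarith [mul_self_pos.2 this]
  have ha2 : a ^ 2 = 1 := by omega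
  have hz : r = 0 := H43.gen_eq_zero_of_norm hrg (by
    rw [hnorm, show (2 - a ^ 2 - b ^ 2 : ℤ) = 0 by omega, Int.cast_zero])
  have hab : a + b = 0 := by
    rw [hsum, CharBasic.classInner_add_right, ha, hb] at hort
    exact_mod_cast hort
  refine ⟨Y, Y', (a : ℂ), hY, hY', by rw [← sq]; exact_mod_cast ha2, hsum, ?_⟩
  have hbe : (b : ℂ) = -(a : ℂ) := by rw [show b = -a by omega, Int.cast_neg]
  rw [hr, sub_sub, sub_eq_zero, hbe] at hz
  rw [hz, smul_sub, neg_smul, sub_eq_add_neg]

end linalg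

variable {G : Type u} [Group G] [Fintype G] {p : ℕ} [hp : Fact p.Prime] {P : Sylow p G}

open scoped Classical in
/-- The equation between `F 1` and the value at an involution. -/
theorem Hyp.value_eq (H : Hyp P) {F : G → ℂ} (hF : H43.Signed F)
    (h10 : Cfsg.classInner F (fun _ : G => (1 : ℂ)) = 0) (hint : ∀ g, ∃ z : ℤ, F g = z)
    (hconst : ∀ g : G, pPart (p := p) g ≠ 1 → F g = 1) {t : G} (ht : orderOf t = 2) :
    (F 1 - 1) * (F 1 - F t) ^ 2 = 0 := by
  obtain ⟨E, _, _, π, hπ⟩ := H.exists_cover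
  haveI := Fintype.ofFinite E
  obtain ⟨ω, hω⟩ : ∃ ω : π.ker →* ℂˣ, ω ≠ 1 := by
    haveI : IsMulCommutative π.ker := ⟨⟨fun a b => Subtype.ext (Subgroup.mem_center_iff.1 (hπ.central b.2) a)⟩⟩
    letI : CommGroup π.ker := { (inferInstance : Group π.ker) with mul_comm := fun a b => mul_comm' a b }
    haveI : NeZero (Monoid.exponent π.ker) := ⟨Monoid.exponent_ne_zero_of_finite⟩
    haveI : NeZero ((Monoid.exponent π.ker : ℕ) : ℂ) :=
      ⟨Nat.cast_ne_zero.2 Monoid.exponent_ne_zero_of_finite⟩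
    haveI : Nontrivial π.ker := Finite.one_lt_card_iff_nontrivial.1 (hπ.card_ker ▸ hp.out.one_lt)
    obtain ⟨z, hz⟩ := exists_ne (1 : π.ker)
    obtain ⟨φ, hφ⟩ := CommGroup.exists_apply_ne_one_of_hasEnoughRootsOfUnity π.ker ℂ hz
    exact ⟨φ, fun h => hφ (by rw [h]; rfl)⟩
  obtain ⟨S, Z₀, μ, q, m, hS, hZP, hZm, hqm, hq1, hqo, hst, hgenμ, hμ1, hμk, hμ0, hμabs⟩ :=
    exists_mu H hπ ω hω
  have hkS : π.ker ≤ (S : Subgroup E) := fun z hz => by
    rw [hS, Subgroup.mem_comap, MonoidHom.mem_ker.1 hz]; exact one_mem _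
  have hFi : ∀ g, conj (F g) = F g := fun g => by
    obtain ⟨z, hz⟩ := hint g
    rw [hz, map_intCast]
  have h1g : Cfsg.IsGeneralizedCharacter G (fun _ : G => (1 : ℂ)) :=
    H43.gen_of_char CharInduce.IsChar.one
  set ψ : G → ℂ := (fun _ => 1) - F with hψ
  set η : G → ℂ := (fun _ => 1) + F with hη
  have hψg : Cfsg.IsGeneralizedCharacter G ψ := H43.gen_sub h1g hF.gen
  have hψv : ∀ g, pPart (p := p) g ≠ 1 → ψ g = 0 := fun g hg => by
    simp [hψ, hconst g hg]
  have h11 : Cfsg.classInner (fun _ : G => (1 : ℂ)) (fun _ => 1) = 1 :=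
    CharBasic.classInner_irr_self CharBasic.isIrrCharacter_one
  have h01 : Cfsg.classInner (fun _ : G => (1 : ℂ)) F = 0 := by
    rw [H43.gen_inner_symm h1g hF.gen, h10]
  set Λ := lift p π ω ψ with hΛdef
  have hΛg : Cfsg.IsGeneralizedCharacter E Λ := isGen_lift hπ.central ω hψg hψv
  set Ψ := secFun S μ with hΨ
  have hΨg : Cfsg.IsGeneralizedCharacter E Ψ := isGen_secFun hst hgenμ
  set Λ' : E → ℂ := fun e => Ψ e * η (π e) with hΛ'def
  have hΛ'g : Cfsg.IsGeneralizedCharacter E Λ' :=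
    CharInduce.IsGen.mul hΨg (CharInduce.IsGen.comp (H43.gen_add h1g hF.gen) π)
  have hunit : ∀ z : π.ker, (ω z : ℂ) * conj (ω z : ℂ) = 1 := by
    intro z
    have h : (ω z : ℂ) ^ p = 1 := by
      rw [← Units.val_pow_eq_pow_val, ← map_pow,
        show z ^ p = 1 from Subtype.ext (by simpa using hπ.ker_pow z.2), map_one, Units.val_one]
    rw [Complex.mul_conj', Complex.norm_eq_one_of_pow_eq_one h hp.out.ne_zero]
    simp
  -- the values, by the `p`-part
  have hin : ∀ e : E, ∀ hz : pPart (p := p) e ∈ π.ker,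
      Λ e = (ω ⟨_, hz⟩ : ℂ) * ψ (π e) ∧ Ψ e = (ω ⟨_, hz⟩ : ℂ) * q := by
    intro e hz
    refine ⟨?_, ?_⟩
    · rw [hΛdef, lift, kerFun, show Cfsg.extendByZero π.ker (fun z => (ω z : ℂ)) (pPart (p := p) e) = _
        from kerFun_coe ω ⟨_, hz⟩]
    · have h := hμk ⟨_, hz⟩ 1 (one_mem _)
      rw [hμ1] at h
      simp only [mul_one] at h
      rw [hΨ, secFun_of_mem hst (hkS hz), h]
  have hout : ∀ e : E, pPart (p := p) e ∉ π.ker → Λ e = 0 ∧ F (π e) = 1 := by
    intro e hz
    refine ⟨by rw [hΛdef, lift, kerFun_of_not_mem ω hz, zero_mul], hconst _ fun h => hz ?_⟩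
    rw [MonoidHom.mem_ker, pPart_map, h]
  -- the norms
  have hΛ2 : Cfsg.classInner Λ Λ = 2 := by
    have e : Cfsg.classInner Λ Λ = Cfsg.classInner (fun e => ψ (π e)) (fun e => ψ (π e)) := by
      simp only [CharBasic.classInner_def]
      congr 1
      refine Finset.sum_congr rfl fun e _ => ?_
      by_cases hz : pPart (p := p) e ∈ π.ker
      · rw [(hin e hz).1, map_mul, mul_mul_mul_comm, hunit, one_mul]
      · rw [(hout e hz).1, hψ]
        simp [(hout e hz).2]
    rw [e, CharInduce.classInner_comp_surjective π hπ.surj ψ ψ, hψ]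
    simp only [CharBasic.classInner_sub_left, CharBasic.classInner_sub_right, h11, h01, h10,
      hF.inner_self]
    norm_num
  set ind : G → ℂ := fun g => if g ∈ Z₀ then 1 else 0 with hind
  have hindst : Stable P ind := by
    intro x hx c hc
    rcases H.fus hx hc with h | h <;> rw [h]
    simp only [hind, inv_mem_iff]
  set sI := secFun P ind with hsI
  have habsΨ : ∀ e : E, Ψ e * conj (Ψ e) = (q : ℂ) ^ 2 * sI (π e) := by
    intro e
    obtain ⟨c, hc⟩ := exists_conj_mem S (exists_orderOf_pPart (p := p) e)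
    set y := c * pPart (p := p) e * c⁻¹ with hy
    have hπy : π y = π c * pPart (p := p) (π e) * (π c)⁻¹ := by
      rw [hy, map_mul, map_mul, map_inv, pPart_map]
    have hyP : π y ∈ (P : Subgroup G) := by
      have := hc; rw [hS, Subgroup.mem_comap] at this; exact this
    rw [hΨ, secFun_eq hst e c hc, hsI, secFun_eq hindst (π e) (π c) (hπy ▸ hyP), ← hπy]
    simp only [hind]
    split_ifs with hZ
    · rw [hμabs y hc hZ, mul_one]
    · rw [hμ0 y hc hZ, zero_mul, mul_zero]
  have hn0 : (Nat.card (P : Subgroup G) : ℂ) ≠ 0 := Nat.cast_ne_zero.2 Nat.card_pos.ne'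
  have hG0 : (Nat.card G : ℂ) ≠ 0 := Nat.cast_ne_zero.2 Nat.card_pos.ne'
  have hΛ'2 : Cfsg.classInner Λ' Λ' = 2 := by
    have e : Cfsg.classInner Λ' Λ' = Cfsg.classInner
        (fun e => (fun g => (q : ℂ) ^ 2 * (sI g * η g)) (π e)) (fun e => η (π e)) := by
      simp only [CharBasic.classInner_def]
      congr 1
      refine Finset.sum_congr rfl fun e _ => ?_
      rw [hΛ'def, map_mul, mul_mul_mul_comm, habsΨ]
      ring
    rw [e, CharInduce.classInner_comp_surjective π hπ.surj (fun g => (q : ℂ) ^ 2 * (sI g * η g)) η,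
      CharBasic.classInner_def]
    set X := Finset.univ.filter (fun x : G => x ∈ (P : Subgroup G) ∧ x ≠ 1) with hX
    have hXP : ∀ x ∈ X, x ∈ (P : Subgroup G) ∧ x ≠ 1 := fun x hx => (Finset.mem_filter.1 hx).2
    have hXc : (X.card : ℂ) = (Nat.card (P : Subgroup G) : ℂ) - 1 := by
      have hs : X = (Finset.univ.filter fun x : G => x ∈ (P : Subgroup G)).erase 1 := by
        ext x; simp [hX, and_comm]
      rw [hs, Finset.cast_card_erase_of_mem (by simp), ← Fintype.card_subtype, ← Nat.card_eq_fintype_card]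
    have h1 : (Nat.card G : ℂ) * X.card = 2 * Nat.card (P : Subgroup G) * (singular p (G := G)).card := by
      have h := H.sum_singular (h := fun _ => (1 : ℂ)) (fun _ _ => rfl)
      rw [Finset.sum_congr rfl fun x hx => H.avg_one (hXP x hx).1 (hXP x hx).2, Finset.sum_const,
        Finset.sum_const, nsmul_one, nsmul_one] at h
      exact h
    have h2 : (Nat.card G : ℂ) * ((m : ℂ) - 1) =
        2 * Nat.card (P : Subgroup G) * ∑ g ∈ singular p, sI g := by
      have h := H.sum_singular (isClassFunction_secFun hindst)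
      rw [Finset.sum_congr rfl (g := ind) fun x hx => by
        rw [avg_secFun hindst (hXP x hx).1, H.avg_one (hXP x hx).1 (hXP x hx).2, mul_one]] at h
      rw [← h]
      congr 1
      simp only [hind]
      rw [← Finset.sum_filter, Finset.sum_const, nsmul_one]
      have hs : X.filter (· ∈ Z₀) = (Finset.univ.filter fun x : G => x ∈ Z₀).erase 1 := by
        ext x
        simp only [hX, Finset.mem_filter, Finset.mem_univ, true_and, Finset.mem_erase]
        exact ⟨fun h => ⟨h.1.2, h.2⟩, fun h => ⟨⟨hZP h.2, h.1⟩, h.2⟩⟩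
      rw [hs, Finset.cast_card_erase_of_mem (by simp), ← Fintype.card_subtype,
        ← Nat.card_eq_fintype_card, hZm]
    have hreg : ∀ g ∈ (singular p (G := G))ᶜ, sI g = 1 := by
      intro g hg
      rw [Finset.mem_compl, mem_singular, not_not] at hg
      rw [hsI, secFun_of_mem hindst (by rw [hg]; exact one_mem _), hg]
      simp [hind]
    have hηη : ∑ g : G, η g * conj (η g) = 2 * (Nat.card G : ℂ) := by
      have h : Cfsg.classInner η η = 2 := by
        simp only [hη, CharBasic.classInner_add_left, CharBasic.classInner_add_right, h11, h01, h10,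
          hF.inner_self]
        norm_num
      rw [CharBasic.classInner_def, inv_mul_eq_iff_eq_mul₀ hG0] at h
      rw [h, mul_comm]
    have h4 : ∀ g ∈ singular p (G := G), η g * conj (η g) = 4 := fun g hg => by
      simp only [hη, Pi.add_apply, hconst g (mem_singular.1 hg), map_add, map_one]
      norm_num
    rw [← Finset.sum_add_sum_compl (singular p)]
    rw [← Finset.sum_add_sum_compl (singular p), Finset.sum_congr rfl h4, Finset.sum_const,
      nsmul_eq_mul] at hηη
    rw [Finset.sum_congr rfl (g := fun g => (q : ℂ) ^ 2 * 4 * sI g) fun g hg => by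
        rw [show (q : ℂ) ^ 2 * (sI g * η g) * conj (η g) = (q : ℂ) ^ 2 * (η g * conj (η g)) * sI g by ring,
          h4 g hg],
      Finset.sum_congr rfl (s₁ := (singular p (G := G))ᶜ)
        (g := fun g => (q : ℂ) ^ 2 * (η g * conj (η g))) fun g hg => by rw [hreg g hg]; ring,
      ← Finset.mul_sum, ← Finset.mul_sum]
    have hqm' : (q : ℂ) ^ 2 * m = Nat.card (P : Subgroup G) := by exact_mod_cast hqm
    rw [hXc] at h1
    generalize (∑ g ∈ singular p, sI g) = a at *
    generalize (∑ g ∈ (singular p (G := G))ᶜ, η g * conj (η g)) = b at *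
    generalize ((singular p (G := G)).card : ℂ) = s at *
    field_simp
    refine mul_left_cancel₀ hn0 ?_
    linear_combination (-(2 : ℂ) * (q : ℂ) ^ 2) * h2 + (q : ℂ) ^ 2 * (Nat.card (P : Subgroup G) : ℂ) * hηη
      + (2 : ℂ) * (q : ℂ) ^ 2 * h1 + 2 * (Nat.card G : ℂ) * hqm'
  have hort : Cfsg.classInner Λ' Λ = 0 := by
    have e : Cfsg.classInner Λ' Λ =
        Cfsg.classInner (fun e => (fun g => (q : ℂ) * η g) (π e)) (fun e => ψ (π e)) := by
      simp only [CharBasic.classInner_def]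
      congr 1
      refine Finset.sum_congr rfl fun e _ => ?_
      by_cases hz : pPart (p := p) e ∈ π.ker
      · simp only [hΛ'def]
        rw [(hin e hz).1, (hin e hz).2, map_mul]
        linear_combination ((q : ℂ) * η (π e) * conj (ψ (π e))) * hunit ⟨_, hz⟩
      · rw [(hout e hz).1, hψ]
        simp [(hout e hz).2]
    rw [e, CharInduce.classInner_comp_surjective π hπ.surj (fun g => (q : ℂ) * η g) ψ,
      show (fun g => (q : ℂ) * η g) = (q : ℂ) • η from rfl, CharBasic.classInner_smul_left]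
    simp only [hη, hψ, CharBasic.classInner_add_left, CharBasic.classInner_sub_right, h11, h01, h10,
      hF.inner_self]
    norm_num
  have hFπ : H43.Signed (fun e : E => F (π e)) := by
    refine H43.signed_of_norm_one (CharInduce.IsGen.comp hF.gen π) ?_
    rw [CharInduce.classInner_comp_surjective π hπ.surj F F, hF.inner_self]
  obtain ⟨Y, Y', a, hY, hY', ha, hYs, hYd⟩ := exists_pair_of_congr hΛg hΛ'g
    (CharInduce.IsGen.mul hΨg hFπ.gen) hqo hΛ2 hΛ'2 hort (fun e => by
      show Λ' e = _ + 2 * (Ψ e * F (π e))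
      simp only [hΛ'def]
      by_cases hz : pPart (p := p) e ∈ π.ker
      · rw [(hin e hz).1, (hin e hz).2, hη, hψ]
        simp only [Pi.add_apply, Pi.sub_apply]; ring
      · rw [(hout e hz).1, hη]
        simp only [Pi.add_apply, (hout e hz).2]; ring)
  -- the lifted involution
  obtain ⟨L₀, hL₀⟩ := hπ.surj t
  set L := L₀ ^ p with hLdef
  have hπL : π L = t := by
    obtain ⟨i, hi⟩ := hp.out.odd_of_ne_two H.odd
    rw [hLdef, map_pow, hL₀, hi, pow_succ, pow_mul,
      show t ^ 2 = 1 from ht ▸ pow_orderOf_eq_one t, one_pow, one_mul]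
  have hL2 : L ^ 2 = 1 := by
    rw [hLdef, ← pow_mul, mul_comm, pow_mul]
    apply hπ.ker_pow
    rw [MonoidHom.mem_ker, map_pow, hL₀, ← ht, pow_orderOf_eq_one]
  have hLreg : ∀ e : E, e = L ∨ e = 1 → pPart (p := p) e = 1 := by
    intro e he
    rw [pPart_eq_one_iff]
    intro h
    have h2 : e ^ 2 = 1 := by rcases he with rfl | rfl <;> simp [hL2]
    exact H.odd ((Nat.prime_dvd_prime_iff_eq hp.out Nat.prime_two).1
      (h.trans (orderOf_dvd_of_pow_eq_one h2)))
  have hvals : ∀ e : E, pPart (p := p) e = 1 → Λ e = ψ (π e) ∧ Ψ e = q := by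
    intro e he
    have hz : pPart (p := p) e ∈ π.ker := he ▸ one_mem _
    have h := hin e hz
    rw [show (⟨_, hz⟩ : π.ker) = 1 from Subtype.ext he, map_one, Units.val_one, one_mul, one_mul] at h
    exact h
  -- the class multiplication formula
  set c : Cfsg.IrrCharacter E → ℂ := fun χ => (χ : E → ℂ) 1 *
    (Cfsg.centralChar (χ : E → ℂ) L * Cfsg.centralChar (χ : E → ℂ) L) with hc
  have hzero : ∀ e : E, Λ e - ψ (π e) ≠ 0 →
      ∑ χ : Cfsg.IrrCharacter E, c χ * conj ((χ : E → ℂ) e) = 0 := by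
    intro e he
    have hz : pPart (p := p) e ∈ π.ker := by
      by_contra hz
      exact he (by rw [(hout e hz).1, hψ]; simp [(hout e hz).2])
    have h0 : (classSum L * classSum L).coeff e = 0 := by
      rw [H84.coeff_classSum_mul, Nat.cast_eq_zero, Finset.card_eq_zero, Finset.filter_eq_empty_iff]
      rintro g - ⟨hg, hg'⟩
      have sq_one : ∀ u : E, IsConj L u → u * u = 1 := by
        intro u hu
        obtain ⟨d, rfl⟩ := isConj_iff.1 hu
        calc d * L * d⁻¹ * (d * L * d⁻¹) = d * L ^ 2 * d⁻¹ := by rw [sq]; group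
          _ = 1 := by rw [hL2]; group
      have e1 := inv_eq_of_mul_eq_one_right (sq_one g hg)
      have e2 := inv_eq_of_mul_eq_one_right (sq_one _ hg')
      have hinv : g * e * g⁻¹ = e⁻¹ := by
        rw [mul_inv_rev, inv_inv, e1] at e2
        have e3 : e⁻¹ * g = g * e := e2
        rw [← e3, mul_inv_cancel_right]
      have h := congrArg (pPart (p := p)) hinv
      rw [pPart_conj, pPart_inv, Subgroup.mem_center_iff.1 (hπ.central hz) g,
        mul_inv_cancel_right] at h
      have hz1 : pPart (p := p) e = 1 := eq_one_of_eq_inv H.odd (P := S) (hkS hz) h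
      exact he (by rw [(hvals e hz1).1, sub_self])
    rw [H84.coeff_classSum_mul_eq] at h0
    exact (mul_eq_zero.1 h0).resolve_left (inv_ne_zero (Nat.cast_ne_zero.2 Nat.card_pos.ne'))
  have hT : ∑ χ : Cfsg.IrrCharacter E,
      c χ * Cfsg.classInner (Λ - fun e => ψ (π e)) (χ : E → ℂ) = 0 := by
    simp only [CharBasic.classInner_def, Finset.mul_sum]
    rw [Finset.sum_comm]
    refine Finset.sum_eq_zero fun e _ => ?_
    by_cases he : Λ e - ψ (π e) = 0
    · exact Finset.sum_eq_zero fun χ _ => by simp [Pi.sub_apply, he]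
    · rw [show ∑ χ : Cfsg.IrrCharacter E, c χ * ((Nat.card E : ℂ)⁻¹ *
          ((Λ - fun e => ψ (π e)) e * conj ((χ : E → ℂ) e))) =
          (Nat.card E : ℂ)⁻¹ * (Λ - fun e => ψ (π e)) e *
            ∑ χ : Cfsg.IrrCharacter E, c χ * conj ((χ : E → ℂ) e) by
        rw [Finset.mul_sum]; exact Finset.sum_congr rfl fun χ _ => by ring]
      rw [hzero e he, mul_zero]
  have h1E : H43.Signed (fun _ : E => (1 : ℂ)) := Or.inl CharBasic.isIrrCharacter_one
  rw [show (Λ - fun e => ψ (π e)) = Y + Y' - ((fun _ => (1 : ℂ)) - fun e => F (π e)) by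
    rw [hYs, hψ]; rfl] at hT
  simp only [CharBasic.classInner_sub_left, CharBasic.classInner_add_left, mul_sub, mul_add,
    Finset.sum_sub_distrib, Finset.sum_add_distrib] at hT
  rw [hc] at hT
  simp only [sum_coeff_signed hY L, sum_coeff_signed hY' L, sum_coeff_signed h1E L,
    sum_coeff_signed hFπ L, hπL, map_one] at hT
  have hK : ((Subgroup.centralizer ({L} : Set E)).index : ℂ) ^ 2 ≠ 0 :=
    pow_ne_zero _ (Nat.cast_ne_zero.2 Subgroup.index_ne_zero_of_finite)
  have heq : Y L ^ 2 / Y 1 + Y' L ^ 2 / Y' 1 = 1 - F t ^ 2 / F 1 := by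
    refine mul_left_cancel₀ hK ?_
    linear_combination hT
  have hA := hY.one_ne_zero
  have hB := hY'.one_ne_zero
  have he0 := hF.one_ne_zero
  have s1 : Y 1 + Y' 1 = 1 - F 1 := by
    have := congrFun hYs 1
    rw [(hvals 1 (hLreg 1 (Or.inr rfl))).1, map_one] at this
    exact this.symm
  have s2 : Y L + Y' L = 1 - F t := by
    have := congrFun hYs L
    rw [(hvals L (hLreg L (Or.inl rfl))).1, hπL] at this
    exact this.symm
  have d1 : Y 1 - Y' 1 = a * q * (1 + F 1) := by
    have := congrFun hYd 1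
    rw [hΛ'def] at this
    simp only [(hvals 1 (hLreg 1 (Or.inr rfl))).2, map_one, hη, Pi.add_apply, Pi.smul_apply,
      Pi.sub_apply, smul_eq_mul] at this
    linear_combination (-a) * this - (Y 1 - Y' 1) * ha
  have d2 : Y L - Y' L = a * q * (1 + F t) := by
    have := congrFun hYd L
    rw [hΛ'def] at this
    simp only [(hvals L (hLreg L (Or.inl rfl))).2, hπL, hη, Pi.add_apply, Pi.smul_apply,
      Pi.sub_apply, smul_eq_mul] at this
    linear_combination (-a) * this - (Y L - Y' L) * ha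
  obtain ⟨Q, hQdef⟩ : ∃ Q : ℂ, Q = a * q := ⟨_, rfl⟩
  rw [← hQdef] at d1 d2
  have hQ : Q ^ 2 - 1 ≠ 0 := by
    rw [sub_ne_zero, hQdef, mul_pow, sq a, ha, one_mul]
    exact_mod_cast (Nat.one_lt_pow two_ne_zero hq1).ne'
  have eA : Y 1 = ((1 - F 1) + Q * (1 + F 1)) / 2 := by linear_combination (s1 + d1) / 2
  have eB : Y' 1 = ((1 - F 1) - Q * (1 + F 1)) / 2 := by linear_combination (s1 - d1) / 2
  have eU : Y L = ((1 - F t) + Q * (1 + F t)) / 2 := by linear_combination (s2 + d2) / 2
  have eV : Y' L = ((1 - F t) - Q * (1 + F t)) / 2 := by linear_combination (s2 - d2) / 2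
  field_simp at heq
  rw [eA, eB, eU, eV] at heq
  refine (mul_eq_zero.1 (?_ : (Q ^ 2 - 1) * ((F 1 - 1) * (F 1 - F t) ^ 2) = 0)).resolve_left hQ
  linear_combination 4 * heq

end Cfsg.Agent.H2.SmithTyrer
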