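import Cfsg.Agent.H2.SmithTyrer.Sections
import Cfsg.Agent.H43.Galois
import Mathlib.GroupTheory.FiniteAbelian.Duality

/-!
# The common exceptional constituent

For every non-trivial linear `l` of `P` the section function of `2 - l - l⁻¹` is `1 + F + (a third
character)` with one signed irreducible `F`, which is rational valued and has section averages `1`.
-/

set_option autoImplicit false

namespace Cfsg.Agent.H2.SmithTyrer

open Cfsg.Agent Cfsg.Agent.BlockBasic Finset
open scoped ComplexConjugate IsMulCommutative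

universe u

variable {G : Type u} [Group G] [Fintype G] {p : ℕ} [hp : Fact p.Prime] {P : Sylow p G}

section sums

variable {A : Type u} [CommGroup A] [Fintype A]

theorem sum_hom (l : A →* ℂˣ) [Decidable (l = 1)] :
    ∑ x : A, (l x : ℂ) = if l = 1 then (Nat.card A : ℂ) else 0 := by
  classical
  have h := sum_hom_units ((Units.coeHom ℂ).comp l)
  have hiff : (Units.coeHom ℂ).comp l = 1 ↔ l = 1 := by
    refine ⟨fun e => MonoidHom.ext fun x => Units.ext ?_, fun e => by subst e; ext; simp⟩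
    simpa using DFunLike.congr_fun e x
  simp only [MonoidHom.coe_comp, Function.comp_apply, Units.coeHom_apply] at h
  rw [h]
  by_cases hl : l = 1
  · rw [if_pos hl, if_pos (hiff.2 hl), Nat.card_eq_fintype_card]
  · rw [if_neg hl, if_neg (fun e => hl (hiff.1 e)), Nat.cast_zero]

theorem sum_dual [Fintype (A →* ℂˣ)] [DecidableEq A] (u : A) :
    ∑ l : A →* ℂˣ, (l u : ℂ) = if u = 1 then (Nat.card A : ℂ) else 0 := by
  haveI : NeZero (Monoid.exponent A) := ⟨Monoid.exponent_ne_zero_of_finite⟩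
  haveI : NeZero ((Monoid.exponent A : ℕ) : ℂ) := ⟨Nat.cast_ne_zero.2 Monoid.exponent_ne_zero_of_finite⟩
  split_ifs with hu
  · subst hu
    simp only [map_one, Units.val_one, Finset.sum_const, Finset.card_univ, nsmul_eq_mul, mul_one]
    rw [← Nat.card_eq_fintype_card, CommGroup.card_monoidHom_of_hasEnoughRootsOfUnity A ℂ]
  · obtain ⟨φ, hφ⟩ := CommGroup.exists_apply_ne_one_of_hasEnoughRootsOfUnity A ℂ hu
    have h : ∑ l : A →* ℂˣ, (l u : ℂ) = (φ u : ℂ) * ∑ l : A →* ℂˣ, (l u : ℂ) := by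
      rw [Finset.mul_sum]
      conv_lhs => rw [← Equiv.sum_comp (Equiv.mulLeft φ)]
      simp
    have h1 : ((φ u : ℂ) - 1) * ∑ l : A →* ℂˣ, (l u : ℂ) = 0 := by
      rw [sub_mul, one_mul, ← h, sub_self]
    exact (mul_eq_zero.1 h1).resolve_left (sub_ne_zero.2 fun e => hφ (Units.ext e))

end sums

/-- A homomorphism of `P`, extended by zero. -/
noncomputable def lf (l : (P : Subgroup G) →* ℂˣ) (g : G) : ℂ :=
  Cfsg.extendByZero (P : Subgroup G) (fun x => (l x : ℂ)) g

theorem lf_coe (l : (P : Subgroup G) →* ℂˣ) (x : (P : Subgroup G)) : lf l (x : G) = l x :=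
  CharInduce.extendByZero_coe _ x

/-- The function `2 - l - l⁻¹`. -/
noncomputable def phi (l : (P : Subgroup G) →* ℂˣ) (g : G) : ℂ := 2 - lf l g - lf l g⁻¹

theorem phi_coe (l : (P : Subgroup G) →* ℂˣ) (x : (P : Subgroup G)) :
    phi l (x : G) = 2 - (l x : ℂ) - ((l⁻¹) x : ℂ) := by
  rw [phi, lf_coe, ← Subgroup.coe_inv, lf_coe, map_inv]
  simp

theorem phi_one_left (l : (P : Subgroup G) →* ℂˣ) : phi l 1 = 0 := by
  have := phi_coe l 1
  rw [Subgroup.coe_one] at this
  rw [this]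
  simp
  norm_num

theorem phi_inv (l : (P : Subgroup G) →* ℂˣ) (g : G) : phi l g⁻¹ = phi l g := by
  rw [phi, phi, inv_inv]; ring

theorem Hyp.stable_phi (H : Hyp P) (l : (P : Subgroup G) →* ℂˣ) : Stable P (phi l) := by
  intro x hx c hc
  rcases H.fus hx hc with h | h <;> rw [h]
  exact phi_inv l x

theorem Hyp.isMulCommutative (H : Hyp P) : IsMulCommutative (P : Subgroup G) :=
  ⟨⟨fun a b => Subtype.ext (H.comm a a.2 b b.2)⟩⟩

/-- The section function of `2 - l - l⁻¹`. -/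
noncomputable def Phi (l : (P : Subgroup G) →* ℂˣ) : G → ℂ := secFun P (phi l)

theorem Hyp.isGen_Phi (H : Hyp P) (l : (P : Subgroup G) →* ℂˣ) :
    Cfsg.IsGeneralizedCharacter G (Phi l) := by
  haveI := H.isMulCommutative
  refine isGen_secFun (H.stable_phi l) ?_
  have he : (fun s : (P : Subgroup G) => phi l s) =
      ((fun _ => (1 : ℂ)) + (fun _ => (1 : ℂ))) - (fun s => (l s : ℂ)) - fun s => ((l⁻¹) s : ℂ) := by
    funext s
    rw [phi_coe]
    simp only [Pi.sub_apply, Pi.add_apply]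
    norm_num
  rw [he]
  exact H43.gen_sub (H43.gen_sub (H43.gen_add (H43.gen_of_char CharInduce.IsChar.one)
    (H43.gen_of_char CharInduce.IsChar.one)) (H43.gen_of_char (CharInduce.isCharacter_hom l)))
    (H43.gen_of_char (CharInduce.isCharacter_hom l⁻¹))

theorem Hyp.conj_phi (H : Hyp P) (l : (P : Subgroup G) →* ℂˣ) (x : (P : Subgroup G)) :
    conj (phi l (x : G)) = phi l (x : G) := by
  haveI := H.isMulCommutative
  have := H43.gen_inv_apply (CharInduce.IsGen.of_char (CharInduce.isCharacter_hom l)) x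
  rw [phi_coe, map_sub, map_sub, ← this]
  have h2 := H43.gen_inv_apply (CharInduce.IsGen.of_char (CharInduce.isCharacter_hom l⁻¹)) x
  rw [← h2]
  simp only [map_ofNat, map_inv, MonoidHom.inv_apply, inv_inv]
  ring

open scoped Classical in
/-- The inner product with a section function through the section averages. -/
theorem Hyp.inner_secFun (H : Hyp P) {f : G → ℂ} (hf : Stable P f) (hf1 : f 1 = 0) {h : G → ℂ}
    (hh : Cfsg.IsClassFunction G h) :
    Cfsg.classInner h (secFun P f) = (2 * Nat.card (P : Subgroup G) : ℂ)⁻¹ *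
      ∑ x ∈ Finset.univ.filter (fun x => x ∈ (P : Subgroup G) ∧ x ≠ 1), avg P h x * conj (f x) := by
  have hG : (Nat.card G : ℂ) ≠ 0 := Nat.cast_ne_zero.2 Nat.card_pos.ne'
  have hn : (Nat.card (P : Subgroup G) : ℂ) ≠ 0 := Nat.cast_ne_zero.2 Nat.card_pos.ne'
  have hcl : Cfsg.IsClassFunction G (fun g => h g * conj (secFun P f g)) := fun g c => by
    simp only [hh g c, isClassFunction_secFun hf g c]
  have hsing : ∑ g : G, h g * conj (secFun P f g) =
      ∑ g ∈ singular p, h g * conj (secFun P f g) := by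
    symm
    refine Finset.sum_subset (Finset.subset_univ _) fun g _ hg => ?_
    rw [mem_singular, not_not] at hg
    rw [secFun_of_mem hf (by rw [hg]; exact one_mem _), hg, hf1, map_zero, mul_zero]
  have hav : ∀ x ∈ Finset.univ.filter (fun x => x ∈ (P : Subgroup G) ∧ x ≠ 1),
      avg P (fun g => h g * conj (secFun P f g)) x = avg P h x * conj (f x) := by
    intro x hx
    rw [mul_comm (avg P h x), ← avg_const_mul]
    refine avg_congr fun g hg => ?_
    rw [secFun_of_mem hf (hg ▸ (Finset.mem_filter.1 hx).2.1), hg, mul_comm]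
  have hs := H.sum_singular hcl
  rw [Finset.sum_congr rfl hav] at hs
  rw [CharBasic.classInner_def, hsing]
  generalize (∑ g ∈ singular p, h g * conj (secFun P f g)) = S at hs
  generalize (∑ x ∈ Finset.univ.filter (fun x => x ∈ (P : Subgroup G) ∧ x ≠ 1),
    avg P h x * conj (f x)) = T at hs
  field_simp
  linear_combination -hs

open scoped Classical in
theorem sum_filter_eq {f : G → ℂ} (hf1 : f 1 = 0) :
    ∑ x ∈ Finset.univ.filter (fun x => x ∈ (P : Subgroup G) ∧ x ≠ 1), f x =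
      ∑ x : (P : Subgroup G), f x := by
  rw [← Finset.sum_subtype (Finset.univ.filter (fun x => x ∈ (P : Subgroup G))) (by simp)]
  refine Finset.sum_subset (fun x hx => ?_) fun x hx hx' => ?_
  · simp only [Finset.mem_filter] at hx ⊢
    exact ⟨hx.1, hx.2.1⟩
  · simp only [Finset.mem_filter, Finset.mem_univ, true_and] at hx hx'
    rw [not_not.1 fun h => hx' ⟨hx, h⟩, hf1]

open scoped Classical in
theorem Hyp.inner_one_Phi (H : Hyp P) {l : (P : Subgroup G) →* ℂˣ} (hl : l ≠ 1) :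
    Cfsg.classInner (fun _ : G => (1 : ℂ)) (Phi l) = 1 := by
  haveI := H.isMulCommutative
  rw [Phi, H.inner_secFun (H.stable_phi l) (phi_one_left l) (fun _ _ => rfl),
    Finset.sum_congr rfl (g := fun x => conj (phi l x)) fun x hx => by
      rw [H.avg_one (Finset.mem_filter.1 hx).2.1 (Finset.mem_filter.1 hx).2.2, one_mul],
    sum_filter_eq (by rw [phi_one_left, map_zero])]
  have hl' : ¬ l⁻¹ = 1 := fun e => hl ((inv_eq_one (α := (P : Subgroup G) →* ℂˣ)).1 e)
  simp only [H.conj_phi]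
  simp only [phi_coe, Finset.sum_sub_distrib, sum_hom, hl, hl', if_false,
    sub_zero, Finset.sum_const, Finset.card_univ, nsmul_eq_mul, ← Nat.card_eq_fintype_card]
  have hn : (Nat.card (P : Subgroup G) : ℂ) ≠ 0 := Nat.cast_ne_zero.2 Nat.card_pos.ne'
  field_simp

theorem avg_secFun {f : G → ℂ} (hf : Stable P f) {x : G} (hx : x ∈ (P : Subgroup G)) :
    avg P (secFun P f) x = f x * avg P (fun _ => (1 : ℂ)) x := by
  rw [← avg_const_mul]
  refine avg_congr fun g hg => ?_
  rw [secFun_of_mem hf (hg ▸ hx), hg, mul_one]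

open scoped Classical in
theorem Hyp.inner_Phi_Phi (H : Hyp P) {l m : (P : Subgroup G) →* ℂˣ} (hl : l ≠ 1) (hm : m ≠ 1) :
    Cfsg.classInner (Phi l) (Phi m) =
      2 + (if l = m then 1 else 0) + (if l = m⁻¹ then 1 else 0) := by
  haveI := H.isMulCommutative
  have hn : (Nat.card (P : Subgroup G) : ℂ) ≠ 0 := Nat.cast_ne_zero.2 Nat.card_pos.ne'
  rw [Phi, Phi, H.inner_secFun (H.stable_phi m) (phi_one_left m)
      (isClassFunction_secFun (H.stable_phi l)),
    Finset.sum_congr rfl (g := fun x => phi l x * conj (phi m x)) fun x hx => by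
      rw [avg_secFun (H.stable_phi l) (Finset.mem_filter.1 hx).2.1,
        H.avg_one (Finset.mem_filter.1 hx).2.1 (Finset.mem_filter.1 hx).2.2, mul_one],
    sum_filter_eq (by rw [phi_one_left, zero_mul])]
  have hterm : ∀ x : (P : Subgroup G), phi l (x : G) * conj (phi m (x : G)) =
      4 - 2 * (l x : ℂ) - 2 * ((l⁻¹) x : ℂ) - 2 * (m x : ℂ) - 2 * ((m⁻¹) x : ℂ) +
        ((l * m) x : ℂ) + ((l * m⁻¹) x : ℂ) + ((l⁻¹ * m) x : ℂ) + ((l⁻¹ * m⁻¹) x : ℂ) := by
    intro x
    rw [H.conj_phi, phi_coe, phi_coe]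
    simp only [MonoidHom.mul_apply, Units.val_mul]
    ring
  have hl' : ¬ l⁻¹ = 1 := fun e => hl ((inv_eq_one (α := (P : Subgroup G) →* ℂˣ)).1 e)
  have hm' : ¬ m⁻¹ = 1 := fun e => hm ((inv_eq_one (α := (P : Subgroup G) →* ℂˣ)).1 e)
  simp only [hterm, Finset.sum_add_distrib, Finset.sum_sub_distrib, ← Finset.mul_sum, sum_hom,
    hl', hm', hl, hm, if_false, mul_zero, sub_zero, Finset.sum_const, Finset.card_univ,
    nsmul_eq_mul, ← Nat.card_eq_fintype_card]
  have e1 : l * m = 1 ↔ l = m⁻¹ := mul_eq_one_iff_eq_inv (G := (P : Subgroup G) →* ℂˣ)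
  have e2 : l * m⁻¹ = 1 ↔ l = m := mul_inv_eq_one (G := (P : Subgroup G) →* ℂˣ)
  have e3 : l⁻¹ * m = 1 ↔ l = m := inv_mul_eq_one (G := (P : Subgroup G) →* ℂˣ)
  have e4 : l⁻¹ * m⁻¹ = 1 ↔ l = m⁻¹ :=
    (mul_eq_one_iff_eq_inv (G := (P : Subgroup G) →* ℂˣ)).trans (inv_inj (G := (P : Subgroup G) →* ℂˣ))
  simp only [e1, e2, e3, e4]
  field_simp
  split_ifs <;> ring

theorem Hyp.ne_inv (H : Hyp P) {l : (P : Subgroup G) →* ℂˣ} (hl : l ≠ 1) : l ≠ l⁻¹ := by
  intro h
  refine hl (MonoidHom.ext fun x => ?_)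
  have hx2 : (l x) ^ 2 = 1 := by
    have := DFunLike.congr_fun h x
    rw [MonoidHom.inv_apply] at this
    rw [sq]; nth_rewrite 1 [this]; exact inv_mul_cancel _
  obtain ⟨k, hk⟩ := P.isPGroup' x
  have hxp : (l x) ^ (p ^ k) = 1 := by rw [← map_pow, hk, map_one]
  have hco : Nat.gcd 2 (p ^ k) = 1 :=
    ((Nat.coprime_primes Nat.prime_two hp.out).2 (Ne.symm H.odd)).pow_right k
  have := (pow_gcd_eq_one (a := l x)).2 ⟨hx2, hxp⟩
  rwa [hco, pow_one] at this

/-- The section function without its principal constituent. -/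
noncomputable def vec (l : (P : Subgroup G) →* ℂˣ) : G → ℂ := Phi l - fun _ => 1

theorem Hyp.isGen_vec (H : Hyp P) (l : (P : Subgroup G) →* ℂˣ) :
    Cfsg.IsGeneralizedCharacter G (vec l) :=
  H43.gen_sub (H.isGen_Phi l) (H43.gen_of_char CharInduce.IsChar.one)

theorem Hyp.inner_vec (H : Hyp P) {l m : (P : Subgroup G) →* ℂˣ} (hl : l ≠ 1) (hm : m ≠ 1) :
    Cfsg.classInner (vec l) (vec m) = Cfsg.classInner (Phi l) (Phi m) - 1 := by
  have h1 := H.inner_one_Phi hm
  have h2 := H.inner_one_Phi hl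
  rw [H43.gen_inner_symm (H43.gen_of_char CharInduce.IsChar.one) (H.isGen_Phi l)] at h2
  simp only [vec, CharBasic.classInner_sub_left, CharBasic.classInner_sub_right, h1, h2,
    CharBasic.classInner_irr_self CharBasic.isIrrCharacter_one]
  ring

open scoped Classical in
theorem Hyp.inner_vec_self (H : Hyp P) {l : (P : Subgroup G) →* ℂˣ} (hl : l ≠ 1) :
    Cfsg.classInner (vec l) (vec l) = 2 := by
  rw [H.inner_vec hl hl, H.inner_Phi_Phi hl hl, if_pos rfl, if_neg (H.ne_inv hl)]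
  norm_num

open scoped Classical in
theorem Hyp.inner_vec_ne (H : Hyp P) {l m : (P : Subgroup G) →* ℂˣ} (hl : l ≠ 1) (hm : m ≠ 1)
    (h1 : l ≠ m) (h2 : l ≠ m⁻¹) : Cfsg.classInner (vec l) (vec m) = 1 := by
  rw [H.inner_vec hl hm, H.inner_Phi_Phi hl hm, if_neg h1, if_neg h2]
  norm_num

theorem phi_inv_left (l : (P : Subgroup G) →* ℂˣ) {g : G} (hg : g ∈ (P : Subgroup G)) :
    phi l⁻¹ g = phi l g := by
  rw [show g = ((⟨g, hg⟩ : (P : Subgroup G)) : G) from rfl, phi_coe, phi_coe]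
  simp only [MonoidHom.inv_apply, inv_inv]
  ring

theorem vec_inv (l : (P : Subgroup G) →* ℂˣ) : vec l⁻¹ = vec l := by
  funext g
  simp only [vec, Phi, secFun, Pi.sub_apply]
  rw [phi_inv_left l (exists_conj_mem P (exists_orderOf_pPart g)).choose_spec]

/-- Signed irreducible characters in norm two families. -/
theorem common_constituent {ι : Type*} (v : ι → G → ℂ)
    (hgen : ∀ i, Cfsg.IsGeneralizedCharacter G (v i)) (h2 : ∀ i, Cfsg.classInner (v i) (v i) = 2)
    (hd : ∀ i j, v i = v j ∨ Cfsg.classInner (v i) (v j) = 1)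
    (i₁ i₂ i₃ i₄ : ι) (h12 : v i₁ ≠ v i₂) (h13 : v i₁ ≠ v i₃) (h14 : v i₁ ≠ v i₄)
    (h23 : v i₂ ≠ v i₃) (h24 : v i₂ ≠ v i₄) (h34 : v i₃ ≠ v i₄) :
    ∃ a : G → ℂ, H43.Signed a ∧ (∀ i, Cfsg.classInner a (v i) = 1) ∧
      ∀ s : G → ℂ, H43.Signed s → (∀ i, Cfsg.classInner s (v i) = 1) → s = a := by
  classical
  choose μ ν hμ hν hort hv using fun i => H43.signed_pair_of_norm_two (hgen i) (h2 i)
  let M : ι → Set (G → ℂ) := fun i => {μ i, ν i}
  have hval : ∀ s t : G → ℂ, H43.Signed s → H43.Signed t →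
      (s = t ∧ Cfsg.classInner s t = 1) ∨ (s ≠ t ∧ (Cfsg.classInner s t = 0 ∨
        Cfsg.classInner s t = -1)) := by
    intro s t hs ht
    by_cases he : s = t
    · exact Or.inl ⟨he, by rw [he]; exact ht.inner_self⟩
    · refine Or.inr ⟨he, ?_⟩
      rcases hs.inner_cases ht with h | h | h
      · exact Or.inl h
      · exact absurd h he
      · right; rw [h, CharBasic.classInner_neg_left, ht.inner_self]
  have hsig : ∀ i, ∀ s ∈ M i, H43.Signed s := by
    intro i s hs
    rcases hs with rfl | rfl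
    exacts [hμ i, hν i]
  have hiff : ∀ s : G → ℂ, H43.Signed s → ∀ i, Cfsg.classInner s (v i) = 1 ↔ s ∈ M i := by
    intro s hs i
    rw [hv i, CharBasic.classInner_add_right]
    constructor
    · intro h
      by_contra hn
      simp only [M, Set.mem_insert_iff, Set.mem_singleton_iff, not_or] at hn
      rcases hval s _ hs (hμ i) with ⟨e, -⟩ | ⟨-, ha⟩
      · exact hn.1 e
      rcases hval s _ hs (hν i) with ⟨e, -⟩ | ⟨-, hb⟩
      · exact hn.2 e
      rcases ha with ha | ha <;> rcases hb with hb | hb <;> rw [ha, hb] at h <;> norm_num at h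
    · rintro (rfl | rfl)
      · rw [(hμ i).inner_self, hort i, add_zero]
      · rw [(hν i).inner_self, H43.gen_inner_symm (hν i).gen (hμ i).gen, hort i, zero_add]
  have hmeet : ∀ i j, v i ≠ v j → ∃ s, s ∈ M i ∧ s ∈ M j := by
    intro i j hij
    by_contra hne
    push Not at hne
    have h1 := (hd i j).resolve_left hij
    rw [hv i, CharBasic.classInner_add_left] at h1
    have hA : ∀ s ∈ M i, Cfsg.classInner s (v j) = 0 ∨ Cfsg.classInner s (v j) = -1 ∨
        Cfsg.classInner s (v j) = -2 := by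
      intro s hs
      have hnot := hne s hs
      simp only [M, Set.mem_insert_iff, Set.mem_singleton_iff, not_or] at hnot
      rw [hv j, CharBasic.classInner_add_right]
      rcases hval s _ (hsig i s hs) (hμ j) with ⟨e, -⟩ | ⟨-, ha⟩
      · exact absurd e hnot.1
      rcases hval s _ (hsig i s hs) (hν j) with ⟨e, -⟩ | ⟨-, hb⟩
      · exact absurd e hnot.2
      rcases ha with ha | ha <;> rcases hb with hb | hb <;> rw [ha, hb] <;> norm_num
    rcases hA (μ i) (Or.inl rfl) with ha | ha | ha <;>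
      rcases hA (ν i) (Or.inr rfl) with hb | hb | hb <;> rw [ha, hb] at h1 <;> norm_num at h1
  have huniq : ∀ i j, v i ≠ v j → ∀ s t : G → ℂ, s ∈ M i → s ∈ M j → t ∈ M i → t ∈ M j → s = t := by
    intro i j hij s t hsi hsj hti htj
    by_contra hst
    have key : ∀ k, s ∈ M k → t ∈ M k → v k = s + t := by
      intro k hs ht
      rw [hv k]
      rcases hs with rfl | rfl <;> rcases ht with rfl | rfl
      · exact absurd rfl hst
      · rfl
      · exact add_comm _ _
      · exact absurd rfl hst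
    exact hij ((key i hsi hti).trans (key j hsj htj).symm)
  have hmem : ∀ i, ∀ a ∈ M i, ∀ b ∈ M i, a ≠ b → ∀ s ∈ M i, s = a ∨ s = b := by
    intro i a ha b hb hab s hs
    simp only [M, Set.mem_insert_iff, Set.mem_singleton_iff] at ha hb hs
    rcases ha with rfl | rfl <;> rcases hb with rfl | rfl <;> rcases hs with rfl | rfl <;> simp_all
  obtain ⟨a, ha1, ha2⟩ := hmeet i₁ i₂ h12
  have hfour : ∀ j k, v i₁ ≠ v j → v i₂ ≠ v j → v i₁ ≠ v k → v i₂ ≠ v k → v j ≠ v k → a ∈ M j := by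
    intro j k hj1 hj2 hk1 hk2 hjk
    by_contra haj
    obtain ⟨b, hb1, hbj⟩ := hmeet i₁ j hj1
    obtain ⟨c, hc2, hcj⟩ := hmeet i₂ j hj2
    have hba : b ≠ a := fun e => haj (e ▸ hbj)
    have hca : c ≠ a := fun e => haj (e ▸ hcj)
    have hbc : b ≠ c := fun e => hba (huniq i₁ i₂ h12 b a hb1 (e ▸ hc2) ha1 ha2)
    have hM1 := hmem i₁ a ha1 b hb1 hba.symm
    have hM2 := hmem i₂ a ha2 c hc2 hca.symm
    by_cases hak : a ∈ M k
    · obtain ⟨d, hdj, hdk⟩ := hmeet j k hjk
      rcases hmem j b hbj c hcj hbc d hdj with rfl | rfl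
      · exact hba (huniq i₁ k hk1 d a hb1 hdk ha1 hak)
      · exact hca (huniq i₂ k hk2 d a hc2 hdk ha2 hak)
    · obtain ⟨b', hb'1, hb'k⟩ := hmeet i₁ k hk1
      obtain ⟨c', hc'2, hc'k⟩ := hmeet i₂ k hk2
      have hb' : b' = b := (hM1 b' hb'1).resolve_left fun e => hak (e ▸ hb'k)
      have hc' : c' = c := (hM2 c' hc'2).resolve_left fun e => hak (e ▸ hc'k)
      subst hb'; subst hc'
      exact hbc (huniq j k hjk b' c' hbj hb'k hcj hc'k)
  have ha3 : a ∈ M i₃ := hfour i₃ i₄ h13 h23 h14 h24 h34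
  have ha4 : a ∈ M i₄ := hfour i₄ i₃ h14 h24 h13 h23 (Ne.symm h34)
  refine ⟨a, hsig i₁ a ha1, fun i => ?_, fun s hs hall =>
    huniq i₁ i₂ h12 s a ((hiff s hs i₁).1 (hall i₁)) ((hiff s hs i₂).1 (hall i₂)) ha1 ha2⟩
  rw [hiff a (hsig i₁ a ha1)]
  by_contra hai
  -- three of the four indices give distinct second constituents in `v i`
  have hother : ∀ j, a ∈ M j → ∃ b, b ∈ M i ∧ b ∈ M j ∧ b ≠ a := by
    intro j haj
    have hne : v i ≠ v j := by
      intro e
      apply hai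
      rw [← hiff a (hsig i₁ a ha1), e, hiff a (hsig i₁ a ha1)]
      exact haj
    obtain ⟨b, hbi, hbj⟩ := hmeet i j hne
    exact ⟨b, hbi, hbj, fun e => hai (e ▸ hbi)⟩
  obtain ⟨b₁, b1i, b11, b1a⟩ := hother i₁ ha1
  obtain ⟨b₂, b2i, b22, b2a⟩ := hother i₂ ha2
  obtain ⟨b₃, b3i, b33, b3a⟩ := hother i₃ ha3
  have hb12 : b₁ ≠ b₂ := fun e => b1a (huniq i₁ i₂ h12 b₁ a b11 (e ▸ b22) ha1 ha2)
  have hb13 : b₁ ≠ b₃ := fun e => b1a (huniq i₁ i₃ h13 b₁ a b11 (e ▸ b33) ha1 ha3)
  have hb23 : b₂ ≠ b₃ := fun e => b2a (huniq i₂ i₃ h23 b₂ a b22 (e ▸ b33) ha2 ha3)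
  rcases hmem i b₁ b1i b₂ b2i hb12 b₃ b3i with e | e
  · exact hb13 e.symm
  · exact hb23 e.symm

theorem Hyp.card_ge (H : Hyp P) : 9 ≤ Nat.card (P : Subgroup G) := by
  obtain ⟨k, hk⟩ := IsPGroup.iff_card.1 P.isPGroup'
  rw [hk]
  match k with
  | 0 =>
    haveI : Subsingleton (P : Subgroup G) := (Nat.card_eq_one_iff_unique.1 (by rw [hk, pow_zero])).1
    exact absurd isCyclic_of_subsingleton H.noncyclic
  | 1 => exact absurd (isCyclic_of_prime_card (by rw [hk, pow_one])) H.noncyclic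
  | k + 2 =>
    have h3 : 3 ≤ p := by
      have := hp.out.two_le
      have := H.odd
      omega
    calc 9 = 3 ^ 2 := rfl
      _ ≤ p ^ 2 := Nat.pow_le_pow_left h3 2
      _ ≤ p ^ (k + 2) := Nat.pow_le_pow_right hp.out.pos (by omega)

open scoped Classical in
/-- The exceptional constituent. -/
theorem Hyp.exists_F (H : Hyp P) : ∃ F : G → ℂ, H43.Signed F ∧
    Cfsg.classInner F (fun _ : G => (1 : ℂ)) = 0 ∧
    (∀ g, ∃ k : ℤ, F g = k) ∧
    ∀ x ∈ (P : Subgroup G), x ≠ 1 → avg P F x = 1 := by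
  haveI := H.isMulCommutative
  haveI : NeZero (Monoid.exponent (P : Subgroup G)) := ⟨Monoid.exponent_ne_zero_of_finite⟩
  haveI : NeZero ((Monoid.exponent (P : Subgroup G) : ℕ) : ℂ) :=
    ⟨Nat.cast_ne_zero.2 Monoid.exponent_ne_zero_of_finite⟩
  have hcard : Nat.card ((P : Subgroup G) →* ℂˣ) = Nat.card (P : Subgroup G) :=
    CommGroup.card_monoidHom_of_hasEnoughRootsOfUnity _ ℂ
  haveI : Finite ((P : Subgroup G) →* ℂˣ) :=
    Nat.finite_of_card_ne_zero (by rw [hcard]; exact Nat.card_pos.ne')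
  haveI := Fintype.ofFinite ((P : Subgroup G) →* ℂˣ)
  set Λ := {l : (P : Subgroup G) →* ℂˣ // l ≠ 1}
  -- four characters, no two equal or inverse
  have hchoose : ∀ s : Finset ((P : Subgroup G) →* ℂˣ), s.card ≤ 3 →
      ∃ l, l ≠ 1 ∧ ∀ m ∈ s, l ≠ m ∧ l ≠ m⁻¹ := by
    intro s hs
    by_contra hne
    push Not at hne
    have hsub : (Finset.univ : Finset ((P : Subgroup G) →* ℂˣ)) ⊆ insert 1 (s ∪ s.image (·⁻¹)) := by
      intro l _
      rw [Finset.mem_insert, Finset.mem_union, Finset.mem_image]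
      by_cases hl : l = 1
      · exact Or.inl hl
      obtain ⟨m, hm, h⟩ := hne l hl
      by_cases hlm : l = m
      · exact Or.inr (Or.inl (hlm ▸ hm))
      · exact Or.inr (Or.inr ⟨m, hm, (h hlm).symm⟩)
    have h1 := Finset.card_le_card hsub
    have h2 := (Finset.card_insert_le 1 (s ∪ s.image (·⁻¹))).trans
      (Nat.succ_le_succ ((Finset.card_union_le _ _).trans (Nat.add_le_add_left Finset.card_image_le _)))
    rw [Finset.card_univ, ← Nat.card_eq_fintype_card, hcard] at h1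
    have := H.card_ge
    omega
  obtain ⟨l₁, hl1, -⟩ := hchoose ∅ (by simp)
  obtain ⟨l₂, hl2, h2⟩ := hchoose {l₁} (by simp)
  obtain ⟨l₃, hl3, h3⟩ := hchoose {l₁, l₂} (by
    exact (Finset.card_insert_le _ _).trans (by simp))
  obtain ⟨l₄, hl4, h4⟩ := hchoose {l₁, l₂, l₃} (by
    exact (Finset.card_insert_le _ _).trans
      (Nat.succ_le_succ ((Finset.card_insert_le _ _).trans (by simp))))
  have hd : ∀ i j : Λ, vec i.1 = vec j.1 ∨ Cfsg.classInner (vec i.1) (vec j.1) = 1 := by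
    intro i j
    by_cases e1 : i.1 = j.1
    · exact Or.inl (by rw [e1])
    by_cases e2 : i.1 = j.1⁻¹
    · exact Or.inl (by rw [e2, vec_inv])
    exact Or.inr (H.inner_vec_ne i.2 j.2 e1 e2)
  have hne : ∀ l m : (P : Subgroup G) →* ℂˣ, l ≠ 1 → m ≠ 1 → (l ≠ m ∧ l ≠ m⁻¹) →
      vec m ≠ vec l := by
    intro l m hl hm h e
    have h1 := H.inner_vec_ne hl hm h.1 h.2
    rw [e, H.inner_vec_self hl] at h1
    norm_num at h1
  obtain ⟨F, hF, hFv, hFu⟩ := common_constituent (fun i : Λ => vec i.1) (fun i => H.isGen_vec _)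
    (fun i => H.inner_vec_self i.2) hd ⟨l₁, hl1⟩ ⟨l₂, hl2⟩ ⟨l₃, hl3⟩ ⟨l₄, hl4⟩
    (hne _ _ hl2 hl1 (h2 _ (by simp))) (hne _ _ hl3 hl1 (h3 _ (by simp)))
    (hne _ _ hl4 hl1 (h4 _ (by simp))) (hne _ _ hl3 hl2 (h3 _ (by simp)))
    (hne _ _ hl4 hl2 (h4 _ (by simp))) (hne _ _ hl4 hl3 (h4 _ (by simp)))
  have hone : ∀ l : (P : Subgroup G) →* ℂˣ, l ≠ 1 →
      Cfsg.classInner (fun _ : G => (1 : ℂ)) (vec l) = 0 := fun l hl => by
    rw [vec, CharBasic.classInner_sub_right, H.inner_one_Phi hl,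
      CharBasic.classInner_irr_self CharBasic.isIrrCharacter_one, sub_self]
  have h10 : Cfsg.classInner F (fun _ : G => (1 : ℂ)) = 0 := by
    have h := hFv ⟨l₁, hl1⟩
    rcases hF.inner_cases (Or.inl CharBasic.isIrrCharacter_one) with e | e | e
    · exact e
    · rw [e, hone _ hl1] at h; norm_num at h
    · rw [e, CharBasic.classInner_neg_left, hone _ hl1] at h; norm_num at h
  have hσ : ∀ σ : ℂ ≃+* ℂ, (fun g => σ (F g)) = F := by
    intro σ
    refine hFu _ (H43.aut_signed σ hF) fun i => ?_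
    set m : (P : Subgroup G) →* ℂˣ := (Units.map (σ.symm : ℂ →* ℂ)).comp i.1 with hm
    have hm1 : m ≠ 1 := by
      intro e
      refine i.2 (MonoidHom.ext fun x => Units.ext (σ.symm.injective ?_))
      have := congrArg Units.val (DFunLike.congr_fun e x)
      simpa [hm] using this
    have hmi : ∀ x : (P : Subgroup G), σ (m x : ℂ) = (i.1 x : ℂ) := fun x => by simp [hm]
    have hphi : ∀ g ∈ (P : Subgroup G), σ (phi m g) = phi i.1 g := by
      intro g hg
      have h1 := phi_coe m ⟨g, hg⟩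
      have h2 := phi_coe i.1 ⟨g, hg⟩
      simp only at h1 h2
      rw [h1, h2, map_sub, map_sub, map_ofNat, hmi]
      simp only [MonoidHom.inv_apply]
      rw [show ((m ⟨g, hg⟩)⁻¹ : ℂˣ).val = ((m ⟨g, hg⟩).val)⁻¹ from Units.val_inv_eq_inv_val _,
        map_inv₀, hmi, Units.val_inv_eq_inv_val]
    have hv : vec i.1 = fun g => σ (vec m g) := by
      funext g
      simp only [vec, Phi, secFun, Pi.sub_apply, map_sub, map_one]
      rw [hphi _ (exists_conj_mem P (exists_orderOf_pPart g)).choose_spec]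
    have h1 := congrArg σ (hFv ⟨m, hm1⟩)
    rw [map_one] at h1
    simp only at h1 ⊢
    rw [← h1, hv]
    simp only [CharBasic.classInner_def, map_mul, map_inv₀, map_natCast, map_sum]
    congr 1
    refine Finset.sum_congr rfl fun g _ => ?_
    rw [← H43.gen_inv_apply (H.isGen_vec m) g]
    have := H43.gen_inv_apply (hv ▸ H.isGen_vec i.1 : Cfsg.IsGeneralizedCharacter G _) g
    rw [this]
  have hint : ∀ g, ∃ k : ℤ, F g = k := by
    intro g
    have hi := H43.gen_isIntegral hF.gen g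
    obtain ⟨q, hq⟩ := H43.rat_of_fixed (hi.tower_top) fun σ => congrFun (hσ σ) g
    exact H43.int_of_rat_integral hi hq
  refine ⟨F, hF, h10, hint, fun x₀ hx₀ hx₀1 => ?_⟩
  have hreal : ∀ g, F g⁻¹ = F g := fun g => by
    obtain ⟨k, hk⟩ := hint g
    rw [H43.gen_inv_apply hF.gen, hk, map_intCast]
  set X := Finset.univ.filter (fun x : G => x ∈ (P : Subgroup G) ∧ x ≠ 1) with hX
  have horth : ∀ l : (P : Subgroup G) →* ℂˣ,
      ∑ x ∈ X, (avg P F x - 1) * conj (phi l x) = 0 := by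
    intro l
    by_cases hl : l = 1
    · refine Finset.sum_eq_zero fun x hx => ?_
      rw [hX, Finset.mem_filter] at hx
      have := phi_coe l ⟨x, hx.2.1⟩
      simp only at this
      rw [this, hl]
      simp only [MonoidHom.inv_apply, MonoidHom.one_apply, inv_one, Units.val_one, map_sub, map_one, map_ofNat]
      ring
    · have h1 : Cfsg.classInner F (Phi l) = 1 := by
        have := hFv ⟨l, hl⟩
        simp only [vec, CharBasic.classInner_sub_right, h10, sub_zero] at this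
        exact this
      have h2 := H.inner_one_Phi hl
      rw [Phi, H.inner_secFun (H.stable_phi l) (phi_one_left l) hF.isClassFunction] at h1
      rw [Phi, H.inner_secFun (H.stable_phi l) (phi_one_left l) (fun _ _ => rfl)] at h2
      have hn : (2 * Nat.card (P : Subgroup G) : ℂ) ≠ 0 :=
        mul_ne_zero two_ne_zero (Nat.cast_ne_zero.2 Nat.card_pos.ne')
      have h3 := mul_left_cancel₀ (inv_ne_zero hn) (h1.trans h2.symm)
      rw [← sub_eq_zero, ← Finset.sum_sub_distrib] at h3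
      rw [← h3]
      refine Finset.sum_congr rfl fun x hx => ?_
      rw [H.avg_one (Finset.mem_filter.1 hx).2.1 (Finset.mem_filter.1 hx).2.2, sub_mul, one_mul]
  have htest : ∀ x ∈ X, ∑ l : (P : Subgroup G) →* ℂˣ,
      lf l x₀⁻¹ * conj (phi l x) =
        -((Nat.card (P : Subgroup G) : ℂ) * ((if x = x₀ then 1 else 0) + if x = x₀⁻¹ then 1 else 0)) := by
    intro x hx
    rw [hX, Finset.mem_filter] at hx
    set a : (P : Subgroup G) := ⟨x, hx.2.1⟩
    set b : (P : Subgroup G) := ⟨x₀, hx₀⟩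
    have hterm : ∀ l : (P : Subgroup G) →* ℂˣ, lf l x₀⁻¹ * conj (phi l x) =
        2 * (l b⁻¹ : ℂ) - (l (b⁻¹ * a) : ℂ) - (l (b⁻¹ * a⁻¹) : ℂ) := by
      intro l
      rw [show x₀⁻¹ = ((b⁻¹ : (P : Subgroup G)) : G) from rfl, show x = (a : G) from rfl,
        lf_coe, H.conj_phi, phi_coe, MonoidHom.inv_apply, ← map_inv]
      rw [map_mul, map_mul, Units.val_mul, Units.val_mul]
      ring
    simp only [hterm, Finset.sum_sub_distrib, ← Finset.mul_sum, sum_dual]
    have c0 : ¬ b⁻¹ = 1 := fun e => hx₀1 (congrArg Subtype.val (inv_eq_one.1 e))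
    have c1 : b⁻¹ * a = 1 ↔ x = x₀ := by
      rw [inv_mul_eq_one]
      exact ⟨fun e => congrArg Subtype.val e.symm, fun e => Subtype.ext e.symm⟩
    have c2 : b⁻¹ * a⁻¹ = 1 ↔ x = x₀⁻¹ := by
      rw [inv_mul_eq_one, eq_comm, inv_eq_iff_eq_inv]
      exact ⟨fun e => congrArg Subtype.val e, fun e => Subtype.ext e⟩
    simp only [c0, c1, c2, if_false]
    split_ifs <;> ring
  have hsum : ∑ x ∈ X, (avg P F x - 1) * ∑ l : (P : Subgroup G) →* ℂˣ,
      lf l x₀⁻¹ * conj (phi l x) = 0 := by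
    simp only [Finset.mul_sum]
    rw [Finset.sum_comm]
    refine Finset.sum_eq_zero fun l _ => ?_
    rw [← mul_zero (lf l x₀⁻¹), ← horth l, Finset.mul_sum]
    exact Finset.sum_congr rfl fun x _ => by ring
  have hxX : x₀ ∈ X := by simp [hX, hx₀, hx₀1]
  have hxX' : x₀⁻¹ ∈ X := by simp [hX, hx₀, hx₀1]
  rw [Finset.sum_congr rfl fun x hx => by rw [htest x hx]] at hsum
  simp only [mul_add, mul_ite, mul_one, mul_zero, neg_add, Finset.sum_add_distrib,
    neg_ite, neg_zero, Finset.sum_ite_eq', hxX, hxX', if_true] at hsum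
  rw [avg_inv F hreal] at hsum
  have hn : (Nat.card (P : Subgroup G) : ℂ) ≠ 0 := Nat.cast_ne_zero.2 Nat.card_pos.ne'
  have h0 : (avg P F x₀ - 1) * (Nat.card (P : Subgroup G) : ℂ) = 0 := by
    linear_combination (-1 / 2 : ℂ) * hsum
  exact sub_eq_zero.1 ((mul_eq_zero.1 h0).resolve_right hn)

end Cfsg.Agent.H2.SmithTyrer
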