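import Cfsg.Agent.H2.SmithTyrer.Mu
import Cfsg.Agent.H2.SmithTyrer.Constant
import Cfsg.Agent.CharInduce.Gallagher

/-!
# Lifting a class function supported on the `p`-regular elements
-/

set_option autoImplicit false

namespace Cfsg.Agent.H2.SmithTyrer

open Cfsg.Agent Cfsg.Agent.BlockBasic Finset
open scoped ComplexConjugate

universe u

variable {G : Type u} [Group G] [Finite G] {p : ℕ} [hp : Fact p.Prime]
variable {E : Type u} [Group E] [Finite E] {π : E →* G}

theorem pPart_map (π : E →* G) (e : E) : π (pPart (p := p) e) = pPart (p := p) (π e) := by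
  refine (pPart_eq_of_isPPart ?_).symm
  obtain ⟨y, hy, hc, ⟨k, hk⟩, hn⟩ := isPPart_pPart (p := p) e
  refine ⟨π y, by rw [← map_mul, hy], hc.map π, ?_, fun h => hn (h.trans (orderOf_map_dvd π y))⟩
  have hd := orderOf_map_dvd π (pPart (p := p) e)
  rw [hk] at hd
  obtain ⟨j, -, hj⟩ := (Nat.dvd_prime_pow hp.out).1 hd
  exact ⟨j, hj⟩

omit [Finite G] [Finite E] in
theorem pPart_coe {E : Type u} [Group E] [Finite E] {K : Subgroup E} (e : K) :
    pPart (p := p) (e : E) = ((pPart (p := p) e : K) : E) :=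
  (pPart_map K.subtype e).symm

/-- `ω` on the kernel, zero elsewhere. -/
noncomputable def kerFun (π : E →* G) (ω : π.ker →* ℂˣ) (e : E) : ℂ :=
  Cfsg.extendByZero π.ker (fun z => (ω z : ℂ)) e

omit [Finite G] [Finite E] hp in
theorem kerFun_coe (ω : π.ker →* ℂˣ) (z : π.ker) : kerFun π ω (z : E) = ω z :=
  CharInduce.extendByZero_coe _ z

omit [Finite G] [Finite E] hp in
theorem kerFun_of_not_mem (ω : π.ker →* ℂˣ) {e : E} (he : e ∉ π.ker) : kerFun π ω e = 0 :=
  CharInduce.extendByZero_of_not_mem _ he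

/-- The lift of `ψ` twisted by `ω`. -/
noncomputable def lift (p : ℕ) [Fact p.Prime] (π : E →* G) (ω : π.ker →* ℂˣ) (ψ : G → ℂ) (e : E) : ℂ :=
  kerFun π ω (pPart (p := p) e) * ψ (π e)

theorem isClassFunction_lift (hc : π.ker ≤ Subgroup.center E) (ω : π.ker →* ℂˣ) {ψ : G → ℂ}
    (hψ : Cfsg.IsClassFunction G ψ) : Cfsg.IsClassFunction E (lift p π ω ψ) := by
  intro e h
  simp only [lift, map_mul, map_inv, hψ (π e) (π h), pPart_conj]
  congr 1
  by_cases hk : pPart (p := p) e ∈ π.ker
  · rw [Subgroup.mem_center_iff.1 (hc hk) h, mul_inv_cancel_right]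
  · rw [kerFun_of_not_mem ω hk, kerFun_of_not_mem ω fun h' => hk (by
      have := (MonoidHom.normal_ker π).conj_mem _ h' h⁻¹
      simpa [mul_assoc] using this)]

/-- Brauer: the lift of a generalised character vanishing on the singular elements is a
generalised character. -/
theorem isGen_lift [Fintype G] [Fintype E] (hc : π.ker ≤ Subgroup.center E) (ω : π.ker →* ℂˣ)
    {ψ : G → ℂ} (hψ : Cfsg.IsGeneralizedCharacter G ψ)
    (hvan : ∀ g, pPart (p := p) g ≠ 1 → ψ g = 0) :
    Cfsg.IsGeneralizedCharacter E (lift p π ω ψ) := by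
  classical
  refine CharInduce.isGeneralized_of_elem
    (isClassFunction_lift hc ω (H43.gen_isClassFunction hψ)) fun U hU => ?_
  obtain ⟨r, hr, hU⟩ := hU
  haveI : Fact r.Prime := ⟨hr⟩
  haveI : Group.IsNilpotent U := CharInduce.isNilpotent_of_isElementary hU
  set A := (partHom (X := U) p).range with hA
  set B := (regHom (X := U) p).range with hB
  have hAm : ∀ a : A, pPart (p := p) (a : U) = (a : U) := by
    rintro ⟨_, x, rfl⟩
    exact (pPart_eq_self_iff _).2 (exists_orderOf_pPart x)
  have hBm : ∀ b : B, pPart (p := p) (b : U) = 1 := by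
    rintro ⟨_, x, rfl⟩
    exact (pPart_eq_one_iff _).2 (not_dvd_orderOf_pReg x)
  let toA : U →* A := (partHom p).rangeRestrict
  let toB : U →* B := (regHom p).rangeRestrict
  have hsplit : ∀ (a : A) (b : B), toA ((a : U) * b) = a ∧ toB ((a : U) * b) = b := by
    intro a b
    have h1 : pPart (p := p) ((a : U) * b) = a := by rw [pPart_mul, hAm, hBm, mul_one]
    refine ⟨Subtype.ext h1, Subtype.ext ?_⟩
    show pReg (p := p) ((a : U) * b) = b
    rw [pReg, h1, inv_mul_cancel_left]
  let eqv : U ≃ A × B :=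
    { toFun := fun e => (toA e, toB e)
      invFun := fun ab => (ab.1 : U) * ab.2
      left_inv := fun e => pPart_mul_pReg e
      right_inv := fun ab => Prod.ext (hsplit ab.1 ab.2).1 (hsplit ab.1 ab.2).2 }
  set K : Subgroup A := π.ker.comap (U.subtype.comp A.subtype) with hK
  haveI : K.Normal := inferInstance
  let wK : K →* ℂˣ := ω.comp
    (((U.subtype.comp A.subtype).comp K.subtype).codRestrict π.ker fun z => z.2)
  set νA : A → ℂ := Cfsg.indFun K (fun z => (wK z : ℂ)) with hνA
  have hνv : ∀ a : A, νA a = (K.index : ℂ) * kerFun π ω ((a : U) : E) := by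
    intro a
    by_cases ha : a ∈ K
    · rw [hνA, show a = ((⟨a, ha⟩ : K) : A) from rfl, CharInduce.indFun_normal_coe]
      have hcv : ∀ x : A, CharInduce.conjFun K (fun z => (wK z : ℂ)) x ⟨a, ha⟩ = (wK ⟨a, ha⟩ : ℂ) := by
        intro x
        show (wK _ : ℂ) = _
        congr 2
        apply Subtype.ext
        apply Subtype.ext
        apply Subtype.ext
        show (((x : U) : E) * ((a : U) : E) * ((x : U) : E)⁻¹) = ((a : U) : E)
        have hac : ((a : U) : E) ∈ π.ker := ha
        rw [Subgroup.mem_center_iff.1 (hc hac) ((x : U) : E), mul_inv_cancel_right]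
      simp only [hcv, Finset.sum_const, Finset.card_univ, nsmul_eq_mul, ← Nat.card_eq_fintype_card]
      rw [show kerFun π ω ((a : U) : E) = (wK ⟨a, ha⟩ : ℂ) from kerFun_coe ω ⟨_, ha⟩,
        ← K.card_mul_index, Nat.cast_mul]
      field_simp [CharInduce.card_ne_zero_complex K]
    · rw [hνA, CharInduce.indFun_eq_zero_of_normal K _ ha, kerFun_of_not_mem ω (show ((a : U) : E) ∉ π.ker from ha), mul_zero]
  have hidx : (K.index : ℂ) ≠ 0 := Nat.cast_ne_zero.2 Subgroup.index_ne_zero_of_finite
  set γ : B → ℂ := fun b => (K.index : ℂ)⁻¹ * ψ (π ((b : U) : E)) with hγ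
  -- the product formula on `U`
  have hπone : ∀ e : U, ((pPart (p := p) e : U) : E) ∈ π.ker ↔ pPart (p := p) (π (e : E)) = 1 := by
    intro e
    rw [MonoidHom.mem_ker, ← pPart_coe, pPart_map]
  have hψB : ∀ e : U, ((toA e : U) : E) ∈ π.ker → π (e : E) = π ((toB e : U) : E) := by
    intro e he
    have h0 : (toA e : U) * (toB e : U) = e := eqv.left_inv e
    conv_lhs => rw [← h0]
    rw [Subgroup.coe_mul, map_mul, MonoidHom.mem_ker.1 he, one_mul]
  have hprod : (fun e : U => lift p π ω ψ (e : E)) = fun e => νA (toA e) * γ (toB e) := by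
    funext e
    rw [hνv, hγ, lift, pPart_coe]
    by_cases he : ((pPart (p := p) e : U) : E) ∈ π.ker
    · rw [hψB e he]
      show kerFun π ω ((pPart (p := p) e : U) : E) * _ = _
      field_simp
      rw [mul_comm]
      rfl
    · have h1 : kerFun π ω ((toA e : U) : E) = 0 := kerFun_of_not_mem ω he
      rw [kerFun_of_not_mem ω he, h1, zero_mul, mul_zero, zero_mul]
  rw [hprod]
  have hgA : Cfsg.IsGeneralizedCharacter A νA :=
    H43.gen_of_char (CharInduce.IsChar.ind K (CharInduce.isCharacter_hom wK))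
  refine CharInduce.IsGen.mul (CharInduce.IsGen.comp hgA toA) (CharInduce.IsGen.comp ?_ toB)
  -- the second factor
  have hψcl := H43.gen_isClassFunction hψ
  refine CharInduce.isGeneralizedCharacter_of_coeff (fun a c => by
    simp only [hγ, Subgroup.coe_mul, Subgroup.coe_inv, map_mul, map_inv, hψcl _ _]) fun β => ?_
  obtain ⟨z, hz⟩ := H43.gen_inner_int
    (CharInduce.IsGen.comp hψ (π.comp U.subtype))
    (CharInduce.IsGen.comp (H43.gen_of_irr β.2) toB)
  refine ⟨z, ?_⟩
  rw [← hz, CharBasic.classInner_def, CharBasic.classInner_def]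
  have hsum : ∑ e : U, ψ ((π.comp U.subtype) e) * conj ((β : B → ℂ) (toB e)) =
      (Nat.card K : ℂ) * ∑ b : B, ψ (π ((b : U) : E)) * conj ((β : B → ℂ) b) := by
    rw [← Equiv.sum_comp eqv.symm, Fintype.sum_prod_type]
    have hin : ∀ (a : A) (b : B), ψ ((π.comp U.subtype) (eqv.symm (a, b))) *
        conj ((β : B → ℂ) (toB (eqv.symm (a, b)))) =
        if a ∈ K then ψ (π ((b : U) : E)) * conj ((β : B → ℂ) b) else 0 := by
      intro a b
      show ψ (π (((a : U) * b : U) : E)) * conj ((β : B → ℂ) (toB ((a : U) * b))) = _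
      rw [(hsplit a b).2]
      split_ifs with ha
      · rw [Subgroup.coe_mul, map_mul, MonoidHom.mem_ker.1 (show ((a : U) : E) ∈ π.ker from ha), one_mul]
      · rw [hvan _ fun h => ha ?_, zero_mul]
        have h2 := (hπone ((a : U) * b)).2 h
        rwa [pPart_mul, hAm, hBm, mul_one] at h2
    simp only [hin]
    rw [Finset.sum_comm, Finset.mul_sum]
    refine Finset.sum_congr rfl fun b _ => ?_
    rw [← Finset.sum_filter, Finset.sum_const, nsmul_eq_mul, ← Fintype.card_subtype,
      ← Nat.card_eq_fintype_card]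
  have hcard : (Nat.card U : ℂ) = (Nat.card K : ℂ) * K.index * Nat.card B := by
    rw [Nat.card_congr eqv, Nat.card_prod, ← K.card_mul_index]
    push_cast; ring
  rw [hsum, hcard]
  simp only [hγ, mul_assoc, ← Finset.mul_sum]
  have := CharInduce.card_ne_zero_complex K
  have := CharInduce.card_ne_zero_complex B
  field_simp

end Cfsg.Agent.H2.SmithTyrer
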