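import Cfsg.Agent.H2.SmithTyrer.Equation
import Cfsg.Agent.CharInduce.Twist
import Cfsg.Agent.Fusion.PComplement
import Cfsg.Agent.H80.RealOddTools
import Cfsg.Agent.Cores.UpperSeries
import Cfsg.Agent.Cores.PCore

/-!
# The theorem of Smith and Tyrer
-/

set_option autoImplicit false

namespace Cfsg.Agent.H2.SmithTyrer

open Cfsg.Agent Cfsg.Agent.BlockBasic Finset
open scoped ComplexConjugate commutatorElement

universe u

variable {G : Type u} [Group G] [Finite G] {p : ℕ} [hp : Fact p.Prime] {P : Sylow p G}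

open scoped Classical in
/-- Without a non-trivial normal subgroup of order prime to `p`, `P` is normal. -/
theorem Hyp.normal (H : Hyp P)
    (hcore : ∀ N : Subgroup G, N.Normal → ¬ p ∣ Nat.card N → N = ⊥) : (P : Subgroup G).Normal := by
  haveI := Fintype.ofFinite G
  obtain ⟨F, hF, h10, hint, havg⟩ := H.exists_F
  have hconst := H.eq_one_of_singular hF.gen hF.inner_self h10 hint havg
  have hsing : ∀ x ∈ (P : Subgroup G), x ≠ 1 → F x = 1 := fun x hx hx1 =>
    hconst x (by rw [pPart_of_mem hx]; exact hx1)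
  have hn := H.card_ge
  haveI : Nontrivial (P : Subgroup G) := Finite.one_lt_card_iff_nontrivial.1 (by omega)
  obtain ⟨⟨x₁, hx₁⟩, hx₁1⟩ := exists_ne (1 : (P : Subgroup G))
  have hx₁' : x₁ ≠ 1 := fun e => hx₁1 (Subtype.ext e)
  by_cases he : F 1 = 1
  · -- `F` is linear
    have hirr : Cfsg.IsIrrCharacter G F := by
      rcases hF with h | h
      · exact h
      · obtain ⟨d, hd, hd1⟩ := CharBasic.IsIrr.exists_degree h
        rw [Pi.neg_apply, he] at hd1
        have : (-1 : ℤ) = (d : ℤ) := by exact_mod_cast hd1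
        omega
    obtain ⟨l, hl⟩ := CharInduce.IsChar.exists_hom_of_degree_one (CharBasic.IsIrr.isCharacter hirr) he
    have hlM : ∀ g, g ∈ l.ker ↔ F g = 1 := fun g => by
      rw [MonoidHom.mem_ker, hl g, Units.val_eq_one]
    have hPM : (P : Subgroup G) ≤ l.ker := fun x hx => (hlM x).2 (by
      by_cases hx1 : x = 1
      · rw [hx1, he]
      · exact hsing x hx hx1)
    have hCM : ∀ c : G, (∀ a ∈ (P : Subgroup G), c * a = a * c) → c ∈ l.ker := by
      intro c hc
      haveI : Fintype (P : Subgroup G) := Fintype.ofFinite _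
      obtain ⟨x, hx, hx1, hx2⟩ : ∃ x ∈ (P : Subgroup G), x ≠ 1 ∧ x ≠ (pPart (p := p) c)⁻¹ := by
        by_contra hall
        push Not at hall
        have hsub : (Finset.univ : Finset G).filter (· ∈ (P : Subgroup G)) ⊆
            {1, (pPart (p := p) c)⁻¹} := by
          intro x hx
          rw [Finset.mem_insert, Finset.mem_singleton]
          by_cases h1 : x = 1
          · exact Or.inl h1
          · exact Or.inr (hall x (Finset.mem_filter.1 hx).2 h1)
        have h := (Finset.card_le_card hsub).trans Finset.card_le_two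
        rw [← Fintype.card_subtype, ← Nat.card_eq_fintype_card] at h
        omega
      have hcx : Commute x c := (hc x hx).symm
      obtain ⟨j, hj⟩ := exists_orderOf_pPart (p := p) c
      obtain ⟨i, hi⟩ := exists_orderOf_of_mem hx
      obtain ⟨y, hy, hyc, -, hyn⟩ := isPPart_pPart (p := p) c
      -- `x` commutes with the parts of `c`
      have hxp : Commute x (pPart (p := p) c) := by
        obtain ⟨k, hk⟩ : ∃ k, pPart (p := p) c = c ^ k := by
          obtain ⟨v, m, hm, hvm⟩ := Nat.exists_eq_pow_mul_and_not_dvd (orderOf_pos c).ne' p hp.out.ne_one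
          obtain ⟨k, l', hk1, hk2, hl1, hl2⟩ := exists_pPart_exponent hp.out v m hm
          refine ⟨k, ?_⟩
          apply pPart_eq_of_isPPart
          refine ⟨c ^ l', ?_, (Commute.refl c).pow_pow k l', ?_, ?_⟩
          · rw [← pow_add]
            conv_rhs => rw [← pow_one c]
            rw [pow_eq_pow_iff_modEq, hvm]
            exact (Nat.modEq_and_modEq_iff_modEq_mul
              (((hp.out.coprime_iff_not_dvd).2 hm).pow_left v)).1
              ⟨by simpa using hk1.add hl1, by simpa using hk2.add hl2⟩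
          · have h1 : (c ^ k) ^ (p ^ v) = 1 := by
              rw [← pow_mul, ← orderOf_dvd_iff_pow_eq_one, hvm, mul_comm k]
              exact Nat.mul_dvd_mul_left _ (Nat.modEq_zero_iff_dvd.1 hk2)
            obtain ⟨w, -, hw⟩ := (Nat.dvd_prime_pow hp.out).1 (orderOf_dvd_of_pow_eq_one h1)
            exact ⟨w, hw⟩
          · have h1 : (c ^ l') ^ m = 1 := by
              rw [← pow_mul, ← orderOf_dvd_iff_pow_eq_one, hvm]
              exact Nat.mul_dvd_mul_right (Nat.modEq_zero_iff_dvd.1 hl1) _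
            exact fun h => hm (h.trans (orderOf_dvd_of_pow_eq_one h1))
        rw [hk]; exact hcx.pow_right k
      have hxy : Commute x y := by
        rw [show y = (pPart (p := p) c)⁻¹ * c by rw [eq_inv_mul_iff_mul_eq, hy]]
        exact hxp.inv_right.mul_right hcx
      have hpp : pPart (p := p) (x * c) = x * pPart (p := p) c := by
        rw [show x * c = (x * pPart (p := p) c) * y by rw [mul_assoc, hy]]
        refine pPart_mul_of (hxy.mul_left hyc) ?_ hyn
        have hd := hxp.orderOf_mul_dvd_mul_orderOf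
        rw [hi, hj, ← pow_add] at hd
        obtain ⟨w, -, hw⟩ := (Nat.dvd_prime_pow hp.out).1 hd
        exact ⟨w, hw⟩
      have hFxc := hconst (x * c) (by
        rw [hpp]; exact fun e => hx2 (eq_inv_of_mul_eq_one_left e))
      have h1 : x * c ∈ l.ker := (hlM _).2 hFxc
      exact (Subgroup.mul_mem_cancel_left _ (hPM hx)).1 h1
    obtain ⟨τ, hτ⟩ := H.exists_inverter
    have hN : ∀ n ∈ Subgroup.normalizer ((P : Subgroup G) : Set G),
        (∀ a ∈ (P : Subgroup G), n * a = a * n) ∨ (∀ a ∈ (P : Subgroup G), (τ⁻¹ * n) * a = a * (τ⁻¹ * n)) := by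
      intro n hn
      rcases H.norm_cases n hn with h | h
      · exact Or.inl fun a ha => mul_inv_eq_iff_eq_mul.1 (h a ha)
      · refine Or.inr fun a ha => mul_inv_eq_iff_eq_mul.1 ?_
        calc τ⁻¹ * n * a * (τ⁻¹ * n)⁻¹ = τ⁻¹ * (n * a * n⁻¹) * τ := by group
          _ = a := by rw [h a ha, ← hτ a ha]; group
    have hτM : τ ∉ l.ker := by
      intro hτM
      have hNM : Subgroup.normalizer ((P : Subgroup G) : Set G) ≤ l.ker := fun n hn => by
        rcases hN n hn with h | h
        · exact hCM n h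
        · have := mul_mem hτM (hCM _ h)
          rwa [mul_inv_cancel_left] at this
      have htop : Subgroup.normalizer ((P : Subgroup G) : Set G) ⊔ l.ker = ⊤ :=
        Sylow.normalizer_sup_eq_top' P hPM
      rw [sup_of_le_right hNM] at htop
      have hF1 : F = fun _ => 1 := funext fun g => (hlM g).1 (htop ▸ Subgroup.mem_top g)
      rw [hF1] at h10
      rw [CharBasic.classInner_irr_self CharBasic.isIrrCharacter_one] at h10
      exact one_ne_zero h10
    have hQ : Subgroup.normalizer (((P.subtype hPM : Sylow p l.ker) : Subgroup l.ker) : Set l.ker) ≤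
        Subgroup.centralizer (((P.subtype hPM : Sylow p l.ker) : Subgroup l.ker) : Set l.ker) := by
      intro n hn
      have hnN : (n : G) ∈ Subgroup.normalizer ((P : Subgroup G) : Set G) := by
        rw [Subgroup.mem_normalizer_iff]
        intro a
        constructor
        · intro ha
          exact (Subgroup.mem_normalizer_iff.1 hn ⟨a, hPM ha⟩).1 ha
        · intro ha
          have hac : a ∈ l.ker := by
            have h2 := Subgroup.mul_mem _ (Subgroup.mul_mem _ (Subgroup.inv_mem _ n.2) (hPM ha)) n.2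
            simpa [mul_assoc] using h2
          exact (Subgroup.mem_normalizer_iff.1 hn ⟨a, hac⟩).2 ha
      rcases hN _ hnN with h | h
      · intro a ha
        exact Subtype.ext (h _ ha).symm
      · exfalso
        apply hτM
        have h1 := hCM _ h
        have h2 := mul_mem n.2 (inv_mem h1)
        rwa [mul_inv_rev, inv_inv, mul_inv_cancel_left] at h2
    obtain ⟨S, L, hLn, hL⟩ := Fusion.hasNormalPComplement_of_normalizer_le_centralizer _ hQ
    haveI := hLn
    have hLp := Fusion.not_dvd_card_of_isComplement' S hL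
    have hLmem : ∀ x : l.ker, x ∈ L ↔ Nat.Coprime (orderOf x) p := fun x =>
      Fusion.mem_iff_coprime_orderOf hLp (Fusion.isPGroup_quotient_of_isComplement' S hL)
    have hLG : (L.map l.ker.subtype).Normal := ⟨fun x hx g => by
      obtain ⟨⟨y, hy⟩, hyL, rfl⟩ := hx
      refine ⟨⟨g * y * g⁻¹, (MonoidHom.normal_ker l).conj_mem y hy g⟩, ?_, rfl⟩
      rw [SetLike.mem_coe, hLmem] at hyL ⊢
      rw [Subgroup.orderOf_mk] at hyL ⊢
      have e : orderOf (g * y * g⁻¹) = orderOf y := (MulAut.conj g).orderOf_eq y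
      rw [e]
      exact hyL⟩
    have hbot := hcore _ hLG (by
      rw [← Nat.card_congr (L.equivMapOfInjective _ l.ker.subtype_injective).toEquiv]; exact hLp)
    rw [Subgroup.map_eq_bot_iff_of_injective _ l.ker.subtype_injective] at hbot
    have hc := hL.card_mul_card
    rw [hbot, Subgroup.card_bot, one_mul, Sylow.card_eq_multiplicity,
      ← Sylow.card_eq_multiplicity (P.subtype hPM), Sylow.coe_subtype,
      Nat.card_congr (Subgroup.subgroupOfEquivOfLe hPM).toEquiv] at hc
    rw [Subgroup.eq_of_le_of_card_ge hPM hc.ge]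
    exact MonoidHom.normal_ker l
  · -- all involutions lie in the kernel, which has order prime to `p`
    exfalso
    obtain ⟨χ, hχ, σ, hσ, hFχ⟩ : ∃ χ : G → ℂ, Cfsg.IsIrrCharacter G χ ∧
        ∃ σ : ℂ, σ ≠ 0 ∧ ∀ g, χ g = σ * F g := by
      rcases hF with h | h
      · exact ⟨F, h, 1, one_ne_zero, fun g => (one_mul _).symm⟩
      · exact ⟨-F, h, -1, by norm_num, fun g => by simp⟩
    obtain ⟨K, hK, hKm, -⟩ := CharBasic.IsChar.exists_kernel (CharBasic.IsIrr.isCharacter hχ)
    have hKF : ∀ g, g ∈ K ↔ F g = F 1 := fun g => by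
      rw [hKm, hFχ, hFχ, mul_right_inj' hσ]
    have hKp : ¬ p ∣ Nat.card K := by
      intro hd
      obtain ⟨⟨y, hy⟩, hord⟩ := exists_prime_orderOf_dvd_card' p hd
      rw [Subgroup.orderOf_mk] at hord
      obtain ⟨c, hc⟩ := exists_conj_mem P (u := y) ⟨1, by rw [hord, pow_one]⟩
      have hne : c * y * c⁻¹ ≠ 1 := fun e => by
        rw [conj_eq_one_iff.1 e, orderOf_one] at hord
        exact hp.out.one_lt.ne hord
      exact he ((hKF _).1 (hK.conj_mem y hy c) ▸ hsing _ hc hne)
    have hKbot := hcore K hK hKp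
    have hodd : Odd (Nat.card G) := by
      rw [← Nat.not_even_iff_odd, even_iff_two_dvd]
      intro h2
      obtain ⟨t, ht⟩ := exists_prime_orderOf_dvd_card' 2 h2
      have h := H.value_eq hF h10 hint hconst ht
      rcases mul_eq_zero.1 h with h | h
      · exact he (sub_eq_zero.1 h)
      · have htK : t ∈ K := (hKF t).2 (sub_eq_zero.1 (pow_eq_zero_iff two_ne_zero |>.1 h)).symm
        rw [hKbot, Subgroup.mem_bot] at htK
        rw [htK, orderOf_one] at ht
        omega
    have hreal : ∀ g, conj (χ g) = χ g := fun g => by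
      obtain ⟨z, hz⟩ := hint g
      rcases hF with h | h
      · have h1 := hFχ g
        obtain ⟨z1, hz1⟩ := H43.gen_one_int (H43.gen_of_irr hχ)
        obtain ⟨z0, hz0⟩ := hint 1
        have hσr : σ = (z1 : ℂ) / z0 := by
          rw [eq_div_iff (by rw [← hz0]; exact CharBasic.IsIrr.one_ne_zero h), ← hz0, ← hFχ 1, hz1]
        rw [h1, hσr, hz, map_mul, map_div₀, map_intCast, map_intCast, map_intCast]
      · have h1 := hFχ g
        obtain ⟨z1, hz1⟩ := H43.gen_one_int (H43.gen_of_irr hχ)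
        obtain ⟨z0, hz0⟩ := hint 1
        have hσr : σ = (z1 : ℂ) / z0 := by
          rw [eq_div_iff (by rw [← hz0]; exact fun e => CharBasic.IsIrr.one_ne_zero h (by simp [e])),
            ← hz0, ← hFχ 1, hz1]
        rw [h1, hσr, hz, map_mul, map_div₀, map_intCast, map_intCast, map_intCast]
    have hone := CharInduce.eq_one_of_real_of_odd hodd hχ hreal
    have hF1 : ∀ g, F g = F 1 := fun g => by
      apply mul_left_cancel₀ hσ
      rw [← hFχ, ← hFχ, hone]
    exact he ((hF1 x₁).symm.trans (hsing x₁ hx₁ hx₁'))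

/-- Transfer: the inverter. -/
theorem exists_inverter_of_pResidual_eq_top (P : Sylow p G) (hab : IsMulCommutative (P : Subgroup G))
    (hidx : ((Subgroup.centralizer ((P : Subgroup G) : Set G)).subgroupOf
      (Subgroup.normalizer ((P : Subgroup G) : Set G))).index = 2)
    (htop : Cfsg.pResidual p G = ⊤) :
    ∃ τ : G, (∀ x ∈ (P : Subgroup G), τ * x * τ⁻¹ = x⁻¹) ∧
      ∀ n ∈ Subgroup.normalizer ((P : Subgroup G) : Set G),
        (∀ x ∈ (P : Subgroup G), n * x * n⁻¹ = x) ∨ (∀ x ∈ (P : Subgroup G), n * x * n⁻¹ = x⁻¹) := by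
  set N := Subgroup.normalizer ((P : Subgroup G) : Set G)
  set C := (Subgroup.centralizer ((P : Subgroup G) : Set G)).subgroupOf N with hC
  have hcomm : ∀ a ∈ (P : Subgroup G), ∀ b ∈ (P : Subgroup G), a * b = b * a := fun a ha b hb =>
    congrArg Subtype.val (hab.1.1 ⟨a, ha⟩ ⟨b, hb⟩)
  obtain ⟨τ, hτ⟩ : ∃ τ : N, τ ∉ C := by
    by_contra hall
    push Not at hall
    rw [Subgroup.index_eq_one.2 (eq_top_iff.2 fun x _ => hall x)] at hidx
    norm_num at hidx
  have hcent : ∀ c : N, c ∈ C → ∀ x ∈ (P : Subgroup G), (c : G) * x * (c : G)⁻¹ = x := fun c hc x hx => by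
    rw [← (Subgroup.mem_centralizer_iff.1 (Subgroup.mem_subgroupOf.1 hc) x hx), mul_inv_cancel_right]
  have hsq : ∀ x ∈ (P : Subgroup G), (τ : G) * ((τ : G) * x * (τ : G)⁻¹) * (τ : G)⁻¹ = x := fun x hx => by
    have := hcent _ (Subgroup.mul_self_mem_of_index_two hidx τ) x hx
    calc (τ : G) * ((τ : G) * x * (τ : G)⁻¹) * (τ : G)⁻¹ = ((τ * τ : N) : G) * x * ((τ * τ : N) : G)⁻¹ := by
          rw [Subgroup.coe_mul]; group
      _ = x := this
  have hτP : ∀ x ∈ (P : Subgroup G), (τ : G) * x * (τ : G)⁻¹ ∈ (P : Subgroup G) := fun x hx =>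
    (Subgroup.mem_normalizer_iff.1 τ.2 x).1 hx
  have hcases : ∀ n ∈ N, (∀ x ∈ (P : Subgroup G), n * x * n⁻¹ = x) ∨
      ∀ x ∈ (P : Subgroup G), n * x * n⁻¹ = (τ : G) * x * (τ : G)⁻¹ := by
    intro n hn
    by_cases hnC : (⟨n, hn⟩ : N) ∈ C
    · exact Or.inl (hcent _ hnC)
    · refine Or.inr fun x hx => ?_
      have h : τ⁻¹ * ⟨n, hn⟩ ∈ C := by
        rw [Subgroup.mul_mem_iff_of_index_two hidx, inv_mem_iff]
        exact ⟨fun h => absurd h hτ, fun h => absurd h hnC⟩
      have := hcent _ h x hx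
      calc n * x * n⁻¹ = (τ : G) * (((τ⁻¹ * ⟨n, hn⟩ : N) : G) * x * ((τ⁻¹ * ⟨n, hn⟩ : N) : G)⁻¹) * (τ : G)⁻¹ := by
            rw [Subgroup.coe_mul, Subgroup.coe_inv]; group
        _ = (τ : G) * x * (τ : G)⁻¹ := by rw [this]
  let I : Subgroup G :=
    { carrier := {x | x ∈ (P : Subgroup G) ∧ (τ : G) * x * (τ : G)⁻¹ = x⁻¹}
      one_mem' := ⟨one_mem _, by simp⟩
      mul_mem' := fun {a b} ha hb => ⟨mul_mem ha.1 hb.1, by
        rw [mul_inv_rev, hcomm b⁻¹ (inv_mem hb.1) a⁻¹ (inv_mem ha.1), ← ha.2, ← hb.2]; group⟩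
      inv_mem' := fun {a} ha => ⟨inv_mem ha.1, by rw [← conj_inv, ha.2]⟩ }
  have hle : (P : Subgroup G) ≤ I := by
    have h := Fusion.pResidual_sup_commutator_inf P
    rw [htop, top_sup_eq, top_inf_eq] at h
    rw [h, Subgroup.focalSubgroup_def, Subgroup.closure_le]
    rintro g ⟨hg, x, hx, u, rfl⟩
    have h1 : u * x⁻¹ * u⁻¹ ∈ (P : Subgroup G) := by
      have := mul_mem (inv_mem hx) hg
      simpa [commutatorElement_def, mul_assoc] using this
    obtain ⟨n, hn, hn'⟩ := Fusion.controlsElementFusion_normalizer_of_commutative P hab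
      x⁻¹ (inv_mem hx) u h1
    have h2 : ⁅x, u⁆ = x * (n * x⁻¹ * n⁻¹) := by
      rw [hn']; group
    rw [SetLike.mem_coe, h2]
    rcases hcases n hn with hc | hc <;> rw [hc _ (inv_mem hx)]
    · rw [mul_inv_cancel]; exact one_mem I
    · have hy := hτP _ (inv_mem hx)
      refine ⟨mul_mem hx hy, ?_⟩
      calc (τ : G) * (x * ((τ : G) * x⁻¹ * (τ : G)⁻¹)) * (τ : G)⁻¹
          = ((τ : G) * x * (τ : G)⁻¹) * ((τ : G) * ((τ : G) * x⁻¹ * (τ : G)⁻¹) * (τ : G)⁻¹) := by group
        _ = ((τ : G) * x * (τ : G)⁻¹) * x⁻¹ := by rw [hsq _ (inv_mem hx)]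
        _ = (x * ((τ : G) * x⁻¹ * (τ : G)⁻¹))⁻¹ := by group
  refine ⟨τ, fun x hx => (hle hx).2, fun n hn => (hcases n hn).imp id fun h x hx => ?_⟩
  rw [h x hx, (hle hx).2]

/-- Smith and Tyrer. -/
theorem pResidual_ne_top_or_pLength (P : Sylow p G) (hp2 : p ≠ 2)
    (hab : IsMulCommutative (P : Subgroup G)) (hnc : ¬ IsCyclic (P : Subgroup G))
    (hidx : ((Subgroup.centralizer ((P : Subgroup G) : Set G)).subgroupOf
      (Subgroup.normalizer ((P : Subgroup G) : Set G))).index = 2) :
    Cfsg.pResidual p G ≠ ⊤ ∨ Cfsg.PLengthLE p 1 G := by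
  by_cases htop : Cfsg.pResidual p G = ⊤
  swap
  · exact Or.inl htop
  right
  obtain ⟨τ, hτ, hN⟩ := exists_inverter_of_pResidual_eq_top P hab hidx htop
  set O := Cfsg.pPrimeCore p G with hO
  haveI : O.Normal := by rw [hO, Cores.pPrimeCore_eq_piCore]; infer_instance
  have hOp : ¬ p ∣ Nat.card O := fun h => hp.out.one_lt.ne' (Nat.eq_one_of_dvd_coprimes
    (Cores.coprime_card_pPrimeCore (p := p) (G := G)) h dvd_rfl)
  set φ := QuotientGroup.mk' O with hφ
  have hφs : Function.Surjective φ := QuotientGroup.mk'_surjective O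
  set Q := Sylow.mapSurjective hφs P with hQ
  have hQc : (Q : Subgroup (G ⧸ O)) = (P : Subgroup G).map φ := rfl
  have hinjP : ∀ x ∈ (P : Subgroup G), φ x = 1 → x = 1 := by
    intro x hx h
    rw [hφ, QuotientGroup.mk'_apply, QuotientGroup.eq_one_iff] at h
    obtain ⟨k, hk⟩ := exists_orderOf_of_mem hx
    have h1 : orderOf x ∣ Nat.card O := Subgroup.orderOf_dvd_natCard _ h
    rw [hk] at h1
    rcases Nat.eq_zero_or_pos k with rfl | hk0
    · exact orderOf_eq_one_iff.1 (by simpa using hk)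
    · exact absurd ((dvd_pow_self p hk0.ne').trans h1) hOp
  have hmk : ∀ (g x : G), φ g * φ x * (φ g)⁻¹ = φ (g * x * g⁻¹) := fun g x => by
    rw [map_mul, map_mul, map_inv]
  have H : Hyp Q := by
    refine ⟨hp2, ?_, ?_, ⟨φ τ, ?_⟩, ?_⟩
    · rintro _ ⟨a, ha, rfl⟩ _ ⟨b, hb, rfl⟩
      rw [← map_mul, ← map_mul, show a * b = b * a from
        congrArg Subtype.val (hab.1.1 ⟨a, ha⟩ ⟨b, hb⟩)]
    · intro hcyc
      apply hnc
      let f : (P : Subgroup G) →* (Q : Subgroup (G ⧸ O)) :=
        (φ.comp (P : Subgroup G).subtype).codRestrict _ fun x => ⟨x, x.2, rfl⟩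
      haveI := hcyc
      exact isCyclic_of_injective f (f.ker_eq_bot_iff.1 (eq_bot_iff.2 fun x hx => Subgroup.mem_bot.2
        (Subtype.ext (hinjP x x.2 (congrArg Subtype.val (MonoidHom.mem_ker.1 hx))))))
    · rintro _ ⟨x, hx, rfl⟩
      rw [hmk, hτ x hx, map_inv]
    · intro g hg
      rw [show ((Q : Subgroup (G ⧸ O)) : Set (G ⧸ O)) = (((P : Subgroup G).map φ : Subgroup _) : Set _) from rfl,
        ← H80.RealOdd.map_normalizer_sylow φ hφs P] at hg
      obtain ⟨n, hn, rfl⟩ := hg
      rcases hN n hn with h | h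
      · left
        rintro _ ⟨x, hx, rfl⟩
        rw [hmk, h x hx]
      · right
        rintro _ ⟨x, hx, rfl⟩
        rw [hmk, h x hx, map_inv]
  have hnorm : ((Q : Subgroup (G ⧸ O))).Normal := H.normal fun M hM hMp => by
    haveI := hM
    have h1 : M ≤ Cfsg.pPrimeCore p (G ⧸ O) :=
      Cores.le_pPrimeCore ((hp.out.coprime_iff_not_dvd.2 hMp).symm)
    exact le_bot_iff.1 (h1.trans (le_of_eq Cores.pPrimeCore_quotient_pPrimeCore))
  have hle : (P : Subgroup G) ≤ Cfsg.pPrimePCore p G := by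
    intro x hx
    rw [Cfsg.pPrimePCore, Subgroup.mem_comap]
    exact le_sSup (show (Q : Subgroup (G ⧸ O)) ∈
      {N : Subgroup (G ⧸ O) | N.Normal ∧ IsPGroup p N} from ⟨hnorm, Q.isPGroup'⟩)
      (Subgroup.mem_map_of_mem φ hx)
  rw [Cores.pLengthLE_one_iff, ← Subgroup.index_eq_card, Nat.coprime_comm, hp.out.coprime_iff_not_dvd]
  exact fun h => P.not_dvd_index (h.trans (Subgroup.index_dvd_of_le hle))

end Cfsg.Agent.H2.SmithTyrer
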