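import Cfsg.Agent.H2.SmithTyrer.Basic
import Cfsg.Agent.CharInduce.Brauer
import Cfsg.Agent.H25.Transfer

/-!
# Section functions and Brauer's characterisation
-/

set_option autoImplicit false

namespace Cfsg.Agent.H2.SmithTyrer

open Cfsg.Agent Cfsg.Agent.BlockBasic

universe u

variable {X : Type u} [Group X] [Finite X] {p : ℕ} [hp : Fact p.Prime]

/-- The product of two elements of a finite nilpotent group decomposes into the products of
their parts. -/
theorem pPart_mul [Group.IsNilpotent X] (g h : X) :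
    pPart (p := p) (g * h) = pPart (p := p) g * pPart (p := p) h := by
  obtain ⟨S, N, hN, hNS⟩ := Fusion.hasNormalPComplement_of_isNilpotent (p := p) (G := X)
  haveI := hN
  haveI : (S : Subgroup X).Normal := inferInstance
  letI := Sylow.unique_of_normal S (inferInstance : (S : Subgroup X).Normal)
  have hS : ∀ u : X, (∃ k, orderOf u = p ^ k) → u ∈ (S : Subgroup X) := by
    intro u hu
    obtain ⟨k, hk⟩ := hu
    obtain ⟨Q, hQ⟩ := (IsPGroup.of_card (by rw [Nat.card_zpowers, hk] :
      Nat.card (Subgroup.zpowers u) = p ^ k)).exists_le_sylow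
    exact Subsingleton.elim Q S ▸ hQ (Subgroup.mem_zpowers u)
  have hmem : ∀ u : X, u ∈ N ↔ Nat.Coprime (orderOf u) p := fun u =>
    Fusion.mem_iff_coprime_orderOf (Fusion.not_dvd_card_of_isComplement' S hNS)
      (Fusion.isPGroup_quotient_of_isComplement' S hNS)
  have hmN : ∀ u : X, pReg (p := p) u ∈ N := fun u => (hmem _).2
    ((hp.out.coprime_iff_not_dvd.2 (not_dvd_orderOf_pReg u)).symm)
  have hcomm : Commute (pReg (p := p) g) (pPart (p := p) h) := by
    apply H25.commute_of_coprime_orderOf
    obtain ⟨k, hk⟩ := exists_orderOf_pPart (p := p) h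
    rw [hk]
    exact ((hp.out.coprime_iff_not_dvd.2 (not_dvd_orderOf_pReg g)).symm).pow_right k
  have he : g * h = (pPart (p := p) g * pPart (p := p) h) * (pReg (p := p) g * pReg (p := p) h) := by
    conv_lhs => rw [← pPart_mul_pReg (p := p) g, ← pPart_mul_pReg (p := p) h]
    rw [mul_assoc, ← mul_assoc (pReg g), hcomm.eq]
    simp only [mul_assoc]
  have hp1 : ∃ k, orderOf (pPart (p := p) g * pPart (p := p) h) = p ^ k :=
    exists_orderOf_of_mem (P := S)
      (mul_mem (hS _ (exists_orderOf_pPart g)) (hS _ (exists_orderOf_pPart h)))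
  have hr1 : Nat.Coprime (orderOf (pReg (p := p) g * pReg (p := p) h)) p :=
    (hmem _).1 (mul_mem (hmN g) (hmN h))
  conv_lhs => rw [he]
  refine pPart_mul_of ?_ hp1 ((hp.out.coprime_iff_not_dvd).1 hr1.symm)
  apply H25.commute_of_coprime_orderOf
  obtain ⟨k, hk⟩ := hp1
  rw [hk]
  exact hr1.symm.pow_left k

/-- The projection of a finite nilpotent group on its `p`-part. -/
noncomputable def partHom [Group.IsNilpotent X] (p : ℕ) [Fact p.Prime] : X →* X where
  toFun := pPart (p := p)
  map_one' := (pPart_eq_one_iff _).2 (by simp [(Fact.out : p.Prime).ne_one])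
  map_mul' := pPart_mul

theorem partHom_apply [Group.IsNilpotent X] (g : X) : partHom p g = pPart (p := p) g := rfl

/-- The projection of a finite nilpotent group on its `p'`-part. -/
noncomputable def regHom [Group.IsNilpotent X] (p : ℕ) [Fact p.Prime] : X →* X where
  toFun := pReg (p := p)
  map_one' := by
    rw [pReg, (pPart_eq_one_iff (1 : X)).2 (by simp [(Fact.out : p.Prime).ne_one])]
    simp
  map_mul' := fun g h => by
    have hc : Commute (pReg (p := p) g) (pPart (p := p) h) := by
      apply H25.commute_of_coprime_orderOf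
      obtain ⟨k, hk⟩ := exists_orderOf_pPart (p := p) h
      rw [hk]
      exact (((Fact.out : p.Prime).coprime_iff_not_dvd.2 (not_dvd_orderOf_pReg g)).symm).pow_right k
    calc pReg (p := p) (g * h) = (pPart (p := p) h)⁻¹ * (pReg (p := p) g * h) := by
          rw [pReg, pPart_mul, pReg, mul_inv_rev]
          simp only [mul_assoc]
      _ = (pPart (p := p) h)⁻¹ * pReg (p := p) g * h := (mul_assoc _ _ _).symm
      _ = pReg (p := p) g * (pPart (p := p) h)⁻¹ * h := by rw [hc.inv_right.eq]
      _ = pReg (p := p) g * pReg (p := p) h := mul_assoc _ _ _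

theorem regHom_apply [Group.IsNilpotent X] (g : X) : regHom p g = pReg (p := p) g := rfl

/-- `f` respects the fusion in the Sylow subgroup. -/
def Stable (S : Sylow p X) (f : X → ℂ) : Prop :=
  ∀ x ∈ (S : Subgroup X), ∀ c : X, c * x * c⁻¹ ∈ (S : Subgroup X) → f (c * x * c⁻¹) = f x

/-- The function `g ↦ f (g_p)`, moved into the Sylow subgroup. -/
noncomputable def secFun (S : Sylow p X) (f : X → ℂ) (g : X) : ℂ :=
  f ((exists_conj_mem S (exists_orderOf_pPart g)).choose * pPart (p := p) g *
    (exists_conj_mem S (exists_orderOf_pPart g)).choose⁻¹)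

theorem secFun_eq {S : Sylow p X} {f : X → ℂ} (hf : Stable S f) (g c : X)
    (hc : c * pPart (p := p) g * c⁻¹ ∈ (S : Subgroup X)) :
    secFun S f g = f (c * pPart (p := p) g * c⁻¹) := by
  have hd := (exists_conj_mem S (exists_orderOf_pPart g)).choose_spec
  set d := (exists_conj_mem S (exists_orderOf_pPart g)).choose
  show f (d * pPart (p := p) g * d⁻¹) = _
  have e : (c * d⁻¹) * (d * pPart (p := p) g * d⁻¹) * (c * d⁻¹)⁻¹ = c * pPart (p := p) g * c⁻¹ := by
    group
  rw [← hf _ hd (c * d⁻¹) (by rw [e]; exact hc), e]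

theorem secFun_of_mem {S : Sylow p X} {f : X → ℂ} (hf : Stable S f) {g : X}
    (hg : pPart (p := p) g ∈ (S : Subgroup X)) : secFun S f g = f (pPart (p := p) g) := by
  have := secFun_eq hf g 1 (by simpa using hg)
  simpa using this

theorem isClassFunction_secFun {S : Sylow p X} {f : X → ℂ} (hf : Stable S f) :
    Cfsg.IsClassFunction X (secFun S f) := by
  intro g h
  obtain ⟨c, hc⟩ := exists_conj_mem S (exists_orderOf_pPart (p := p) g)
  have e : c * h⁻¹ * pPart (p := p) (h * g * h⁻¹) * (c * h⁻¹)⁻¹ = c * pPart (p := p) g * c⁻¹ := by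
    rw [pPart_conj]; group
  rw [secFun_eq hf (h * g * h⁻¹) (c * h⁻¹) (by rw [e]; exact hc), secFun_eq hf g c hc, e]

/-- Brauer: section functions of generalised characters of the Sylow subgroup are generalised
characters. -/
theorem isGen_secFun [Fintype X] {S : Sylow p X} {f : X → ℂ} (hf : Stable S f)
    (hgen : Cfsg.IsGeneralizedCharacter (S : Subgroup X) (fun s => f s)) :
    Cfsg.IsGeneralizedCharacter X (secFun S f) := by
  refine CharInduce.isGeneralized_of_elem (isClassFunction_secFun hf) fun E hE => ?_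
  obtain ⟨r, hr, hE⟩ := hE
  haveI : Fact r.Prime := ⟨hr⟩
  haveI : Group.IsNilpotent E := CharInduce.isNilpotent_of_isElementary hE
  obtain ⟨Q⟩ : Nonempty (Sylow p E) := inferInstance
  obtain ⟨R, hR⟩ := (Q.isPGroup'.map E.subtype).exists_le_sylow
  obtain ⟨c, hc⟩ := MulAction.exists_smul_eq X R S
  have hQn : (Q : Subgroup E).Normal := inferInstance
  letI := Sylow.unique_of_normal Q hQn
  have hmem : ∀ e : E, pPart (p := p) e ∈ (Q : Subgroup E) := fun e => by
    obtain ⟨k, hk⟩ := exists_orderOf_pPart (p := p) e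
    obtain ⟨Q', hQ'⟩ := (IsPGroup.of_card (by rw [Nat.card_zpowers, hk] :
      Nat.card (Subgroup.zpowers (pPart (p := p) e)) = p ^ k)).exists_le_sylow
    exact Subsingleton.elim Q' Q ▸ hQ' (Subgroup.mem_zpowers _)
  have hcS : ∀ e : E, c * (pPart (p := p) e : E) * c⁻¹ ∈ (S : Subgroup X) := fun e => by
    rw [← hc]
    exact ⟨_, hR ⟨_, hmem e, rfl⟩, rfl⟩
  let ψ : E →* (S : Subgroup X) :=
    (((MulAut.conj c).toMonoidHom.comp E.subtype).comp (partHom p)).codRestrict _ fun e => hcS e
  have hval : (fun e : E => secFun S f e) = fun e => (fun s : (S : Subgroup X) => f s) (ψ e) := by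
    funext e
    have hpe : pPart (p := p) (e : X) = ((pPart (p := p) e : E) : X) := by
      refine pPart_eq_of_isPPart ?_
      obtain ⟨y, hy, hyc, ⟨k, hk⟩, hyn⟩ := isPPart_pPart (p := p) e
      refine ⟨y, ?_, ?_, ⟨k, by rw [Subgroup.orderOf_coe, hk]⟩, by rwa [Subgroup.orderOf_coe]⟩
      · rw [← Subgroup.coe_mul, hy]
      · exact congrArg Subtype.val hyc.eq
    rw [secFun_eq hf (e : X) c (by rw [hpe]; exact hcS e), hpe]
    rfl
  rw [hval]
  exact CharInduce.IsGen.comp hgen ψ

end Cfsg.Agent.H2.SmithTyrer
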