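import Cfsg.Agent.H2.SmithTyrer.Cover
import Cfsg.Agent.H2.SmithTyrer.Sections
import Cfsg.Agent.CharInduce.Induce

/-!
# A stable character of the lifted Sylow subgroup over a faithful central character
-/

set_option autoImplicit false

namespace Cfsg.Agent.H2.SmithTyrer

open Cfsg.Agent Cfsg.Agent.BlockBasic Finset
open scoped ComplexConjugate

universe u

variable {G : Type u} [Group G] [Finite G] {p : ℕ} [hp : Fact p.Prime] {P : Sylow p G}
variable {E : Type u} [Group E] [Finite E] {π : E →* G}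

omit [Finite G] in
theorem card_comap_of_surj (hsurj : Function.Surjective π) [Finite G] (K : Subgroup G) :
    Nat.card (K.comap π) = Nat.card π.ker * Nat.card K := by
  have h1 := Subgroup.card_mul_index (K.comap π)
  rw [Subgroup.index_comap_of_surjective K hsurj, ← Subgroup.card_mul_index π.ker,
    Subgroup.index_ker, MonoidHom.range_eq_top.2 hsurj, Subgroup.card_top,
    ← Subgroup.card_mul_index K, ← mul_assoc] at h1
  exact Nat.eq_of_mul_eq_mul_right (Nat.pos_of_ne_zero Subgroup.index_ne_zero_of_finite) h1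

/-- The preimage of `P`, as a Sylow subgroup of the cover. -/
theorem Cover.exists_sylow (hπ : Cover P π) :
    ∃ S : Sylow p E, (S : Subgroup E) = (P : Subgroup G).comap π := by
  obtain ⟨a, ha⟩ := IsPGroup.iff_card.1 P.isPGroup'
  have hpg : IsPGroup p ((P : Subgroup G).comap π) :=
    IsPGroup.of_card (n := a + 1) (by rw [card_comap_of_surj hπ.surj, hπ.card_ker, ha, pow_succ, mul_comm])
  exact ⟨hpg.toSylow (by rw [Subgroup.index_comap_of_surjective _ hπ.surj]; exact P.not_dvd_index), rfl⟩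

omit [Finite G] [Finite E] in
theorem Cover.ker_pow (hπ : Cover P π) {z : E} (hz : z ∈ π.ker) : z ^ p = 1 := by
  have h := pow_card_eq_one' (x := (⟨z, hz⟩ : π.ker))
  rw [hπ.card_ker] at h
  simpa using congrArg Subtype.val h

theorem exists_mu (H : Hyp P) (hπ : Cover P π) (ω : π.ker →* ℂˣ) (hω : ω ≠ 1) :
    ∃ (S : Sylow p E) (Z₀ : Subgroup G) (μ : E → ℂ) (q m : ℕ),
      (S : Subgroup E) = (P : Subgroup G).comap π ∧ Z₀ ≤ (P : Subgroup G) ∧ Nat.card Z₀ = m ∧
      q ^ 2 * m = Nat.card (P : Subgroup G) ∧ 1 < q ∧ Odd q ∧ Stable S μ ∧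
      Cfsg.IsGeneralizedCharacter (S : Subgroup E) (fun s => μ s) ∧ μ 1 = q ∧
      (∀ z : π.ker, ∀ x ∈ (S : Subgroup E), μ ((z : E) * x) = (ω z : ℂ) * μ x) ∧
      (∀ x ∈ (S : Subgroup E), π x ∉ Z₀ → μ x = 0) ∧
      (∀ x ∈ (S : Subgroup E), π x ∈ Z₀ → μ x * conj (μ x) = (q : ℂ) ^ 2) := by
  classical
  obtain ⟨S, hS⟩ := hπ.exists_sylow
  have hmem : ∀ x, x ∈ (S : Subgroup E) ↔ π x ∈ (P : Subgroup G) := fun x => by
    rw [hS, Subgroup.mem_comap]
  have hkS : π.ker ≤ (S : Subgroup E) := fun z hz => (hmem z).2 (by rw [hz]; exact one_mem _)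
  set Zc : Subgroup E := (S : Subgroup E) ⊓ Subgroup.centralizer ((S : Subgroup E) : Set E) with hZcdef
  have hkZ : π.ker ≤ Zc := fun z hz =>
    ⟨hkS hz, fun y _ => Subgroup.mem_center_iff.1 (hπ.central hz) y⟩
  have hZS : Zc ≤ (S : Subgroup E) := inf_le_left
  have hZc : ∀ z ∈ Zc, ∀ y ∈ (S : Subgroup E), y * z = z * y := fun z hz y hy => hz.2 y hy
  set Z₀ := Zc.map π with hZ₀def
  have hZ₀ : ∀ x, π x ∈ Z₀ ↔ x ∈ Zc := by
    intro x
    rw [← Subgroup.mem_comap, hZ₀def, Subgroup.comap_map_eq, sup_of_le_left hkZ]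
  have hZ₀P : Z₀ ≤ (P : Subgroup G) := Subgroup.map_le_iff_le_comap.2 (hS ▸ hZS)
  have hcardS : Nat.card (S : Subgroup E) = p * Nat.card (P : Subgroup G) := by
    rw [hS, card_comap_of_surj hπ.surj, hπ.card_ker]
  have hcardZ : Nat.card Zc = p * Nat.card Z₀ := by
    rw [← hπ.card_ker, ← card_comap_of_surj hπ.surj, hZ₀def, Subgroup.comap_map_eq,
      sup_of_le_left hkZ]
  -- elements centralising `P` modulo the kernel fix the centre
  have htriv : ∀ g : E, (∀ a ∈ (P : Subgroup G), π g * a * (π g)⁻¹ = a) →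
      ∀ z ∈ Zc, g * z * g⁻¹ = z := by
    intro g hg z hz
    have hgN : g ∈ Subgroup.normalizer ((S : Subgroup E) : Set E) := by
      rw [Subgroup.mem_normalizer_iff]
      intro a
      rw [hmem, hmem, map_mul, map_mul, map_inv]
      refine ⟨fun ha => by rw [hg _ ha]; exact ha, fun ha => ?_⟩
      have h := hg _ ha
      have e : π g * π a * (π g)⁻¹ = π a := by
        have h2 : π g * (π g * π a * (π g)⁻¹) = (π g * π a * (π g)⁻¹) * π g :=
          mul_inv_eq_iff_eq_mul.1 h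
        simp only [mul_assoc, inv_mul_cancel, mul_one] at h2 ⊢
        exact mul_left_cancel h2
      rwa [e] at ha
    set k := g * z * g⁻¹ * z⁻¹ with hk
    have hkk : k ∈ π.ker := by
      rw [MonoidHom.mem_ker, hk, map_mul, map_mul, map_mul, map_inv, map_inv,
        hg _ ((hmem z).1 (hZS hz)), mul_inv_cancel]
    have hcomm : ∀ y, y * k = k * y := Subgroup.mem_center_iff.1 (hπ.central hkk)
    have hpow : ∀ i : ℕ, g ^ i * z * (g ^ i)⁻¹ = k ^ i * z := by
      intro i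
      induction i with
      | zero => simp
      | succ i ih =>
        have hcm : g * k ^ i = k ^ i * g :=
          (show Commute g k from hcomm g).pow_right i
        calc g ^ (i + 1) * z * (g ^ (i + 1))⁻¹ = g * (g ^ i * z * (g ^ i)⁻¹) * g⁻¹ := by
              rw [pow_succ']; group
          _ = g * k ^ i * z * g⁻¹ := by rw [ih]; simp only [mul_assoc]
          _ = k ^ i * (g * z * g⁻¹) := by rw [hcm]; simp only [mul_assoc]
          _ = k ^ (i + 1) * z := by rw [pow_succ, hk]; group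
    set N := Subgroup.normalizer ((S : Subgroup E) : Set E)
    set j := ((S : Subgroup E).subgroupOf N).index with hj
    have hjS : g ^ j ∈ (S : Subgroup E) := by
      have := Subgroup.pow_index_mem ((S : Subgroup E).subgroupOf N) (⟨g, hgN⟩ : N)
      simpa [Subgroup.mem_subgroupOf] using this
    have hj1 : k ^ j = 1 := by
      have h := hpow j
      rw [hZc z hz _ hjS, mul_inv_cancel_right] at h
      exact mul_eq_right.1 h.symm
    have hjp : ¬ p ∣ j := fun h => S.not_dvd_index (h.trans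
      (Subgroup.relIndex_dvd_index_of_le Subgroup.le_normalizer))
    have hk1 : k = 1 := orderOf_eq_one_iff.1 (Nat.eq_one_of_dvd_coprimes
      ((hp.out.coprime_iff_not_dvd).2 hjp) (orderOf_dvd_of_pow_eq_one (hπ.ker_pow hkk))
      (orderOf_dvd_of_pow_eq_one hj1))
    exact mul_inv_eq_one.1 hk1
  -- a lifted inverter and the invariant linear character
  obtain ⟨t, ht⟩ := H.exists_inverter
  obtain ⟨τ, hτ⟩ := hπ.surj t
  have hτS : ∀ x ∈ (S : Subgroup E), τ * x * τ⁻¹ ∈ (S : Subgroup E) := fun x hx => by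
    rw [hmem, map_mul, map_mul, map_inv, hτ, ht _ ((hmem x).1 hx)]
    exact inv_mem ((hmem x).1 hx)
  have hfk : ∀ z : Zc, (z : E) * (τ * z * τ⁻¹) ∈ π.ker := fun z => by
    rw [MonoidHom.mem_ker, map_mul, map_mul, map_mul, map_inv, hτ,
      ht _ ((hmem _).1 (hZS z.2)), mul_inv_cancel]
  let f : Zc →* π.ker :=
    { toFun := fun z => ⟨_, hfk z⟩
      map_one' := Subtype.ext (by simp)
      map_mul' := fun a b => Subtype.ext (by
        show (a : E) * b * (τ * (a * b) * τ⁻¹) = a * (τ * a * τ⁻¹) * (b * (τ * b * τ⁻¹))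
        have hc := hZc b b.2 _ (hτS a (hZS a.2))
        calc (a : E) * b * (τ * (a * b) * τ⁻¹)
            = a * (b * (τ * a * τ⁻¹)) * (τ * b * τ⁻¹) := by group
          _ = a * ((τ * a * τ⁻¹) * b) * (τ * b * τ⁻¹) := by rw [hc]
          _ = a * (τ * a * τ⁻¹) * (b * (τ * b * τ⁻¹)) := by group) }
  obtain ⟨h2, hh2⟩ : ∃ h2 : ℕ, 2 * h2 = p + 1 := by
    obtain ⟨i, hi⟩ := hp.out.odd_of_ne_two H.odd
    exact ⟨i + 1, by omega⟩
  let l0 : Zc →* ℂˣ := (ω.comp f) ^ h2
  have hl0k : ∀ z : π.ker, l0 ⟨z, hkZ z.2⟩ = ω z := by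
    intro z
    have hcz := Subgroup.mem_center_iff.1 (hπ.central z.2) τ
    have e : f ⟨z, hkZ z.2⟩ = z * z := Subtype.ext (by
      show (z : E) * (τ * z * τ⁻¹) = z * z
      rw [hcz, mul_inv_cancel_right])
    show (ω (f ⟨z, hkZ z.2⟩)) ^ h2 = ω z
    rw [e, map_mul, ← sq, ← pow_mul, hh2, pow_succ, ← map_pow]
    rw [show z ^ p = 1 from Subtype.ext (by simpa using hπ.ker_pow z.2), map_one, one_mul]
  have hl0τ : ∀ z : Zc, ∀ hz : τ * (z : E) * τ⁻¹ ∈ Zc, l0 ⟨_, hz⟩ = l0 z := by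
    intro z hz
    have e : f ⟨_, hz⟩ = f z := Subtype.ext (by
      show τ * (z : E) * τ⁻¹ * (τ * (τ * z * τ⁻¹) * τ⁻¹) = z * (τ * z * τ⁻¹)
      have h := htriv (τ * τ) (fun a ha => by
        calc π (τ * τ) * a * (π (τ * τ))⁻¹ = t * (t * a * t⁻¹) * t⁻¹ := by
              rw [map_mul, hτ]; group
          _ = a := by rw [ht a ha, ht _ (inv_mem ha), inv_inv]) z z.2
      rw [show τ * (τ * (z : E) * τ⁻¹) * τ⁻¹ = τ * τ * z * (τ * τ)⁻¹ by group, h]
      exact hZc z z.2 _ (hτS z (hZS z.2)))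
    show (ω (f _)) ^ h2 = (ω (f z)) ^ h2
    rw [e]
  -- an irreducible character over it
  set ZS := Zc.subgroupOf (S : Subgroup E)
  let lS : ZS →* ℂˣ := l0.comp (Subgroup.subgroupOfEquivOfLe hZS).toMonoidHom
  haveI := Fintype.ofFinite (S : Subgroup E)
  haveI := Fintype.ofFinite ZS
  have hind := CharInduce.IsChar.ind ZS (CharInduce.isCharacter_hom lS)
  obtain ⟨⟨ν, d, ρ, hρ, rfl⟩, hν⟩ := CharInduce.exists_constituent hind (fun h => by
    have := congrFun h 1
    rw [CharInduce.indFun_one, map_one, Units.val_one, mul_one, Pi.zero_apply,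
      Nat.cast_eq_zero] at this
    exact Subgroup.index_ne_zero_of_finite this)
  haveI := hρ
  obtain ⟨q, hq0, hq⟩ := CharBasic.IsIrr.exists_degree (CharBasic.isIrrCharacter_character ρ)
  have hqc : (q : ℂ) ≠ 0 := Nat.cast_ne_zero.2 hq0.ne'
  have hscal : ∀ z : ZS, ∃ s : ℂ, s * conj s = 1 ∧
      ∀ g, ρ.character (g * (z : (S : Subgroup E))) = s * ρ.character g := by
    intro z
    obtain ⟨s, -, hs1, hs⟩ := CharBasic.exists_central_scalar ρ (z := (z : (S : Subgroup E)))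
      (Subgroup.mem_center_iff.2 fun y => Subtype.ext (hZc _ z.2 y y.2))
    exact ⟨s, by rw [Complex.mul_conj', hs1]; simp, hs⟩
  choose s hs1 hs using hscal
  have hsval : ∀ z : ZS, ρ.character (z : (S : Subgroup E)) = s z * q := fun z => by
    have := hs z 1
    rwa [one_mul, hq] at this
  let fc : ZS →* ℂ :=
    { toFun := fun z => (lS z : ℂ) * conj (s z)
      map_one' := by
        have h := hsval 1
        rw [OneMemClass.coe_one, hq] at h
        have : s 1 = 1 := mul_right_cancel₀ hqc (by rw [one_mul]; exact h.symm)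
        simp [this]
      map_mul' := fun a b => by
        have h := hs b (a : (S : Subgroup E))
        rw [← Subgroup.coe_mul, hsval, hsval, ← mul_assoc] at h
        have : s (a * b) = s b * s a := mul_right_cancel₀ hqc h
        simp only [map_mul, Units.val_mul, this]
        ring }
  have hs' : ∀ z : ZS, s z = (lS z : ℂ) := by
    intro z
    by_contra hne
    apply hν
    rw [CharInduce.classInner_indFun_left ZS _ _
      (CharBasic.IsIrr.isClassFunction (CharBasic.isIrrCharacter_character ρ)),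
      CharBasic.classInner_def]
    have hf1 : fc ≠ 1 := fun e => hne (by
      have h := congrArg (fun x => x * s z) (DFunLike.congr_fun e z)
      simp only [fc, MonoidHom.coe_mk, OneHom.coe_mk, MonoidHom.one_apply, one_mul] at h
      rw [mul_assoc, mul_comm (conj (s z)), hs1, mul_one] at h
      exact h.symm)
    have h0 := sum_hom_units_eq_zero fc hf1
    simp only [fc, MonoidHom.coe_mk, OneHom.coe_mk] at h0
    simp only [hsval, map_mul, map_natCast, ← mul_assoc, ← Finset.sum_mul, h0, zero_mul, mul_zero]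
  set μ : E → ℂ := Cfsg.extendByZero (S : Subgroup E) ρ.character with hμdef
  have hμc : ∀ x : (S : Subgroup E), μ (x : E) = ρ.character x := fun x =>
    CharInduce.extendByZero_coe _ x
  have hμZ : ∀ (x : E) (hx : x ∈ Zc), μ x = (l0 ⟨x, hx⟩ : ℂ) * q := by
    intro x hx
    have h1 : μ x = ρ.character ((⟨⟨x, hZS hx⟩, hx⟩ : ZS) : (S : Subgroup E)) := hμc ⟨x, hZS hx⟩
    rw [h1, hsval, hs']
    rfl
  have hinj : ∀ z : π.ker, ω z = 1 → z = 1 := by
    intro z hz
    haveI : Fact (Nat.card π.ker).Prime := ⟨hπ.card_ker ▸ hp.out⟩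
    rcases Subgroup.eq_bot_or_eq_top_of_prime_card ω.ker with h | h
    · exact Subgroup.mem_bot.1 (h ▸ MonoidHom.mem_ker.2 hz)
    · exact absurd (MonoidHom.ext fun y => MonoidHom.mem_ker.1 (h ▸ Subgroup.mem_top y)) hω
  have hker : ∀ z : π.ker, ∀ x ∈ (S : Subgroup E), μ ((z : E) * x) = (ω z : ℂ) * μ x := by
    intro z x hx
    have h1 : μ (x * (z : E)) = ρ.character ((⟨x, hx⟩ : (S : Subgroup E)) *
        ((⟨⟨z, hkS z.2⟩, hkZ z.2⟩ : ZS) : (S : Subgroup E))) := hμc (⟨x, hx⟩ * ⟨z, hkS z.2⟩)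
    have h2 : μ x = ρ.character ⟨x, hx⟩ := hμc ⟨x, hx⟩
    rw [← Subgroup.mem_center_iff.1 (hπ.central z.2), h1, h2, hs, hs']
    congr 2
    exact hl0k z
  have hvan : ∀ x ∈ (S : Subgroup E), x ∉ Zc → μ x = 0 := by
    intro x hx hxZ
    obtain ⟨y, hy, hxy⟩ : ∃ y ∈ (S : Subgroup E), y * x ≠ x * y := by
      by_contra hall
      push Not at hall
      exact hxZ ⟨hx, fun y hy => hall y hy⟩
    set c := y * x * y⁻¹ * x⁻¹ with hc
    have hck : c ∈ π.ker := by
      rw [MonoidHom.mem_ker, hc, map_mul, map_mul, map_mul, map_inv, map_inv,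
        H.comm _ ((hmem y).1 hy) _ ((hmem x).1 hx), mul_inv_cancel_right, mul_inv_cancel]
    have h1 : μ (y * x * y⁻¹) = μ x := by
      have e1 : μ (y * x * y⁻¹) = ρ.character
          ((⟨y, hy⟩ : (S : Subgroup E)) * ⟨x, hx⟩ * (⟨y, hy⟩ : (S : Subgroup E))⁻¹) :=
        hμc (⟨y, hy⟩ * ⟨x, hx⟩ * (⟨y, hy⟩ : (S : Subgroup E))⁻¹)
      rw [e1, Representation.char_conj]
      exact (hμc ⟨x, hx⟩).symm
    rw [show y * x * y⁻¹ = c * x by rw [hc]; group, hker ⟨c, hck⟩ x hx] at h1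
    have h2 : ((ω ⟨c, hck⟩ : ℂ) - 1) * μ x = 0 := by rw [sub_mul, one_mul, h1, sub_self]
    refine (mul_eq_zero.1 h2).resolve_left (sub_ne_zero.2 fun e => hxy ?_)
    have := congrArg Subtype.val (hinj ⟨c, hck⟩ (Units.ext e))
    rw [show ((⟨c, hck⟩ : π.ker) : E) = c from rfl, hc, OneMemClass.coe_one] at this
    exact (mul_inv_eq_iff_eq_mul.1 (mul_inv_eq_one.1 this))
  have habs : ∀ x ∈ (S : Subgroup E), x ∈ Zc → μ x * conj (μ x) = (q : ℂ) ^ 2 := by
    intro x hx hxZ
    have h := hs1 ⟨⟨x, hx⟩, hxZ⟩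
    rw [hs'] at h
    rw [hμZ x hxZ, map_mul, map_natCast, mul_mul_mul_comm]
    rw [show (l0 ⟨x, hxZ⟩ : ℂ) * conj (l0 ⟨x, hxZ⟩ : ℂ) = 1 from h, one_mul, sq]
  -- the degree
  have hnorm := (H43.gen_of_irr (CharBasic.isIrrCharacter_character ρ))
  have hn1 : Cfsg.classInner ρ.character ρ.character = 1 :=
    CharBasic.classInner_irr_self (CharBasic.isIrrCharacter_character ρ)
  rw [CharBasic.classInner_def, inv_mul_eq_iff_eq_mul₀ (Nat.cast_ne_zero.2 Nat.card_pos.ne'),
    mul_one, Finset.sum_congr rfl (g := fun x : (S : Subgroup E) =>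
      if (x : E) ∈ Zc then (q : ℂ) ^ 2 else 0) fun x _ => by
    rw [← hμc]
    split_ifs with hx
    · exact habs _ x.2 hx
    · rw [hvan _ x.2 hx, zero_mul],
    ← Finset.sum_filter, Finset.sum_const, ← Fintype.card_subtype, ← Nat.card_eq_fintype_card,
    show Nat.card {x : (S : Subgroup E) // (x : E) ∈ Zc} = Nat.card Zc from
      Nat.card_congr (Subgroup.subgroupOfEquivOfLe hZS).toEquiv, nsmul_eq_mul, hcardS, hcardZ] at hn1
  have hqm : q ^ 2 * Nat.card Z₀ = Nat.card (P : Subgroup G) := by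
    have h : p * Nat.card Z₀ * q ^ 2 = p * Nat.card (P : Subgroup G) := by exact_mod_cast hn1
    rw [mul_assoc] at h
    rw [mul_comm]
    exact Nat.eq_of_mul_eq_mul_left hp.out.pos h
  have hq1 : 1 < q := by
    by_contra hle
    have hq1 : q = 1 := by omega
    rw [hq1, one_pow, one_mul] at hqm
    have heq : Z₀ = (P : Subgroup G) := Subgroup.eq_of_le_of_card_ge hZ₀P hqm.ge
    obtain ⟨x, y, hx, hy, hxy⟩ := hπ.nonabelian
    exact hxy (hZc y ((hZ₀ y).1 (heq ▸ hy)) x ((hmem x).2 hx))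
  have hodd : Odd q := by
    obtain ⟨a, ha⟩ := IsPGroup.iff_card.1 P.isPGroup'
    have hn : Odd (Nat.card (P : Subgroup G)) := ha ▸ (hp.out.odd_of_ne_two H.odd).pow
    rw [← hqm, Nat.odd_mul, sq, Nat.odd_mul] at hn
    exact hn.1.1
  have hone : μ 1 = q := by
    rw [← OneMemClass.coe_one (S : Subgroup E), hμc, hq]
  refine ⟨S, Z₀, μ, q, Nat.card Z₀, hS, hZ₀P, rfl, hqm, hq1, hodd, ?_,
    (show (fun s : (S : Subgroup E) => μ s) = ρ.character from funext hμc) ▸
      H43.gen_of_irr (CharBasic.isIrrCharacter_character ρ),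
    hone, hker, fun x hx h => hvan x hx (fun h' => h ((hZ₀ x).2 h')),
    fun x hx h => habs x hx ((hZ₀ x).1 h)⟩
  -- stability
  intro x hx c hcx
  have hπc : π (c * x * c⁻¹) = π c * π x * (π c)⁻¹ := by rw [map_mul, map_mul, map_inv]
  have hiff : c * x * c⁻¹ ∈ Zc ↔ x ∈ Zc := by
    rw [← hZ₀, ← hZ₀, hπc]
    rcases H.fus ((hmem x).1 hx) (c := π c) (by rw [← hπc]; exact (hmem _).1 hcx) with h | h <;> rw [h]
    exact inv_mem_iff
  by_cases hxZ : x ∈ Zc
  swap
  · rw [hvan x hx hxZ, hvan _ hcx (fun h => hxZ (hiff.1 h))]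
  have hyZ := hiff.2 hxZ
  obtain ⟨n, hn, he⟩ := Fusion.burnside_fusion_centralizer S (x := x) (g := c)
    (fun y hy => hZc x hxZ y hy) (fun y hy => hZc _ hyZ y hy)
  have hnN : π n ∈ Subgroup.normalizer ((P : Subgroup G) : Set G) := by
    rw [Subgroup.mem_normalizer_iff]
    intro a
    obtain ⟨b, rfl⟩ := hπ.surj a
    rw [← hmem, ← map_inv, ← map_mul, ← map_mul, ← hmem]
    exact Subgroup.mem_normalizer_iff.1 hn b
  rcases H.norm_cases _ hnN with h | h
  · rw [← he, htriv n h x hxZ]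
  · have hg := htriv (τ⁻¹ * n) (fun a ha => by
      calc π (τ⁻¹ * n) * a * (π (τ⁻¹ * n))⁻¹ = t⁻¹ * (π n * a * (π n)⁻¹) * t := by
            rw [map_mul, map_inv, hτ]; group
        _ = a := by rw [h a ha, ← ht a ha]; group) x hxZ
    have e : n * x * n⁻¹ = τ * x * τ⁻¹ := by
      calc n * x * n⁻¹ = τ * (τ⁻¹ * n * x * (τ⁻¹ * n)⁻¹) * τ⁻¹ := by group
        _ = τ * x * τ⁻¹ := by rw [hg]
    have hmem' : τ * x * τ⁻¹ ∈ Zc := by rw [← e, he]; exact hyZ
    rw [← he, e, hμZ _ hmem', hμZ x hxZ, hl0τ ⟨x, hxZ⟩ hmem']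

end Cfsg.Agent.H2.SmithTyrer
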